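import Groth.Prelude.Def_Red
import Groth.Agent.Lib.GrpLaw19.Basic
import Groth.Agent.Lib.RedSep.Basic
import Mathlib

/-!
# Pieces for the specialization of subgroups over a valuation ring
-/

set_option autoImplicit false
set_option linter.style.haveILetI false
set_option backward.isDefEq.respectTransparency false
set_option backward.isDefEq.respectTransparency.types false
universe u

open CategoryTheory CategoryTheory.Limits MonoidalCategory CartesianMonoidalCategory MonObj AlgebraicGeometry

namespace Groth.Agent.SubSpec19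

/-- An integral scheme dominating a valuation ring is flat over it. -/
theorem flat_of_isIntegral {V : Type u} [CommRing V] [IsDomain V] [ValuationRing V] {X : Scheme.{u}}
    [IsIntegral X] (g : X ⟶ Spec (CommRingCat.of V)) [IsDominant g] : Flat g := by
  refine (HasRingHomProperty.iff_of_source_openCover (P := @Flat) X.affineCover).2 fun i => ?_
  let e := X.affineCover.f i
  let a := (e ≫ g).appTop.hom
  let c := (Scheme.ΓSpecIso (CommRingCat.of V)).inv.hom
  suffices hf : (a.comp c).Flat by
    have e2 : a = (a.comp c).comp (Scheme.ΓSpecIso (CommRingCat.of V)).hom.hom := by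
      ext x
      show a x = a (c _)
      rw [Iso.hom_inv_id_apply]
    rw [show ((X.affineCover.f i ≫ g).appTop).hom = a from rfl, e2]
    exact RingHom.Flat.comp (RingHom.Flat.of_bijective
      (ConcreteCategory.bijective_of_isIso (Scheme.ΓSpecIso (CommRingCat.of V)).hom)) hf
  letI : Algebra V Γ(X.affineCover.X i, ⊤) := (a.comp c).toAlgebra
  refine (RingHom.flat_algebraMap_iff (R := V) (S := Γ(X.affineCover.X i, ⊤))).2 ?_
  rcases isEmpty_or_nonempty (X.affineCover.X i) with he | hne
  · haveI : Subsingleton Γ(X.affineCover.X i, ⊤) := inferInstance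
    infer_instance
  haveI : IsIntegral (X.affineCover.X i) := isIntegral_of_isOpenImmersion e
  haveI : IsDomain Γ(X.affineCover.X i, ⊤) := inferInstance
  haveI : IsDominant e := e.isOpenEmbedding.isOpen_range.dense
    (Set.range_nonempty _) |> fun h => ⟨h⟩
  have hinj : Function.Injective (a.comp c) := by
    haveI : IsSchemeTheoreticallyDominant (e ≫ g) := .of_isDominant _
    exact ((e ≫ g).app_injective ⊤).comp
      (ConcreteCategory.bijective_of_isIso (Scheme.ΓSpecIso (CommRingCat.of V)).inv).1
  rw [Module.Flat.flat_iff_torsion_eq_bot_of_isBezout, eq_bot_iff]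
  rintro x ⟨⟨r, hr⟩, hrx⟩
  rw [Submodule.mem_bot]
  exact ((mul_eq_zero.1 (show (a.comp c) r * x = 0 from hrx)).resolve_left fun h =>
    nonZeroDivisors.ne_zero hr (hinj (h.trans (map_zero _).symm)))

/-- A morphism from a reduced scheme into the range of an immersion lifts. -/
theorem exists_lift_immersion {A B C : Scheme.{u}} [IsReduced A] (a : A ⟶ C) (b : B ⟶ C) [IsImmersion b]
    (h : Set.range a ⊆ Set.range b) : ∃ l : A ⟶ B, l ≫ b = a := by
  have h1 : Set.range a ⊆ Set.range b.coborderRange.ι := by
    rw [Scheme.Opens.range_ι]; exact h.trans subset_coborder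
  let a' : A ⟶ b.coborderRange.toScheme := IsOpenImmersion.lift b.coborderRange.ι a h1
  have ha' : a' ≫ b.coborderRange.ι = a := IsOpenImmersion.lift_fac _ _ _
  obtain ⟨l, hl⟩ := RedSepLib.exists_lift_of_range_subset a' b.liftCoborder (by
    rintro _ ⟨x, rfl⟩
    obtain ⟨y, hy⟩ := h ⟨x, rfl⟩
    refine ⟨y, b.coborderRange.ι.isEmbedding.injective ?_⟩
    rw [← Scheme.Hom.comp_apply, ← Scheme.Hom.comp_apply, ha', b.liftCoborder_ι, hy])
  exact ⟨l, by rw [← b.liftCoborder_ι, ← Category.assoc, hl, ha']⟩

section Pts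

variable {S S' : Scheme.{u}} (f : S' ⟶ S) {G : Over S} [GrpObj G] (T : Over S')

/-- Points of a base change are points over the base, compatibly with the group laws. -/
noncomputable def bcPts : ((Over.map f).obj T ⟶ G) ≃* (T ⟶ Red.bc f G) :=
  { toEquiv := (Over.mapPullbackAdj f).homEquiv T G
    map_mul' := fun x y => by
      show (Over.mapPullbackAdj f).homEquiv T G (x * y) = _
      rw [Adjunction.homEquiv_unit]
      exact map_mul ((GrpLaw19.precomp (Red.bc f G) ((Over.mapPullbackAdj f).unit.app T)).comp
        ((Over.pullback f).homMonoidHom (X := (Over.map f).obj T) (M := G))) x y }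

theorem bcPts_symm_left (a : T ⟶ Red.bc f G) :
    ((bcPts f T).symm a).left = a.left ≫ pullback.fst G.hom f := by
  show (((Over.mapPullbackAdj f).homEquiv T G).symm a).left = _
  simp [Adjunction.homEquiv_counit]

theorem bcPts_symm_comp {T' : Over S'} (t : T' ⟶ T) (a : T ⟶ Red.bc f G) :
    (bcPts f T').symm (t ≫ a) = (Over.map f).map t ≫ (bcPts f T).symm a := by
  ext1
  rw [Over.comp_left, bcPts_symm_left, bcPts_symm_left]
  simp

end Pts

/-- Universal tuples of points. -/
theorem exists_univ {S : Scheme.{u}} (X : Over S) [Flat X.hom] (m : ℕ) :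
    ∃ (W : Over S) (y : Fin m → (W ⟶ X)), Flat W.hom ∧
      ∀ (T : Over S) (x : Fin m → (T ⟶ X)), ∃ t : T ⟶ W, ∀ j, t ≫ y j = x j := by
  induction m with
  | zero =>
    exact ⟨𝟙_ _, Fin.elim0, inferInstanceAs (Flat (𝟙 S)), fun T x => ⟨toUnit T, fun j => j.elim0⟩⟩
  | succ m ih =>
    obtain ⟨W, y, hW, hy⟩ := ih
    refine ⟨X ⊗ W, Fin.cons (fst X W) (fun j => snd X W ≫ y j),
      inferInstanceAs (Flat (Limits.pullback.fst X.hom W.hom ≫ X.hom)), fun T x => ?_⟩
    obtain ⟨t, ht⟩ := hy T (fun j => x j.succ)
    refine ⟨lift (x 0) t, Fin.cases (by simp) (fun i => by simp [ht i])⟩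

end Groth.Agent.SubSpec19
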