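import Groth.Agent.Lib.SubSpec19.Core
import Groth.Agent.Lib.FlatClosure19.Basic
import Groth.Agent.Lib.SubGrp13.Basic
import Groth.Agent.Lib.GrpCM20.Basic
import Groth.Agent.Lib.WeilEq.Represent

/-!
# Flat closure of a closed subgroup of the generic fibre over a discrete valuation ring
-/

set_option autoImplicit false
set_option linter.style.haveILetI false
set_option linter.unusedSectionVars false
set_option backward.isDefEq.respectTransparency false
set_option backward.isDefEq.respectTransparency.types false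
universe u

open CategoryTheory CategoryTheory.Limits MonoidalCategory CartesianMonoidalCategory MonObj GrpObj AlgebraicGeometry

namespace Groth.Agent.SubSpec19

/-- Laws are stable under base change. -/
theorem law_bc {S S' : Scheme.{u}} (f : S' ⟶ S) {G : Over S} [GrpObj G] {m : ℕ} {w : FreeGroup (Fin m)}
    (h : Law G m w) : Law (Red.bc f G) m w := by
  intro T a
  refine (bcPts f T).symm.injective ?_
  rw [map_one]
  exact (hom_lift (bcPts f T).symm.toMonoidHom a w).trans (h _ _)

/-- A subgroup containing all commutators. -/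
def HasComm {S : Scheme.{u}} {G N : Over S} [GrpObj G] (i : N ⟶ G) : Prop :=
  ∀ (T : Over S) (g h : T ⟶ G), ∃ m : T ⟶ N, g * h * g⁻¹ * h⁻¹ = m ≫ i

/-- A composite with a scheme-theoretically dominant morphism from the generic fibre is flat. -/
theorem flat_of_dominant {A : Type u} [CommRing A] [IsDomain A] [ValuationRing A] {K : Type u} [Field K]
    [Algebra A K] [IsFractionRing A K] {X Y : Scheme.{u}} (φ : X ⟶ Y) [IsSchemeTheoreticallyDominant φ]
    [QuasiCompact φ] (g : Y ⟶ Spec (CommRingCat.of A)) (h : X ⟶ Spec (CommRingCat.of K))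
    (w : φ ≫ g = h ≫ Spec.map (CommRingCat.ofHom (algebraMap A K))) : Flat g := by
  refine (HasRingHomProperty.iff_of_source_openCover (P := @Flat) Y.affineCover).2 fun i => ?_
  let e := Y.affineCover.f i
  let d := pullback.fst e φ
  haveI : IsSchemeTheoreticallyDominant d := inferInstanceAs (IsSchemeTheoreticallyDominant (pullback.fst e φ))
  let a := (e ≫ g).appTop.hom
  have hsq : d ≫ e ≫ g = (pullback.snd e φ ≫ h) ≫ Spec.map (CommRingCat.ofHom (algebraMap A K)) := by
    rw [pullback.condition_assoc, w, Category.assoc]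
  have hinj : Function.Injective d.appTop := d.app_injective ⊤
  let c := (Scheme.ΓSpecIso (CommRingCat.of A)).inv.hom
  suffices hf : (a.comp c).Flat by
    have e2 : a = (a.comp c).comp (Scheme.ΓSpecIso (CommRingCat.of A)).hom.hom := by
      ext x
      show a x = a (c _)
      rw [Iso.hom_inv_id_apply]
    rw [show ((Y.affineCover.f i ≫ g).appTop).hom = a from rfl, e2]
    exact RingHom.Flat.comp (RingHom.Flat.of_bijective
      (ConcreteCategory.bijective_of_isIso (Scheme.ΓSpecIso (CommRingCat.of A)).hom)) hf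
  letI : Algebra A Γ(Y.affineCover.X i, ⊤) := (a.comp c).toAlgebra
  refine (RingHom.flat_algebraMap_iff (R := A) (S := Γ(Y.affineCover.X i, ⊤))).2 ?_
  rw [Module.Flat.flat_iff_torsion_eq_bot_of_isBezout, eq_bot_iff]
  rintro x ⟨⟨r, hr⟩, hrx⟩
  rw [Submodule.mem_bot]
  refine hinj ?_
  rw [map_zero]
  have hu : IsUnit (d.appTop (a (c r))) := by
    have h2 := congrArg (fun m => m.appTop (c r)) hsq
    simp only [Scheme.Hom.comp_appTop, CommRingCat.comp_apply] at h2
    refine h2 ▸ ?_
    refine IsUnit.map _ (IsUnit.map _ ?_)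
    have h3 := ConcreteCategory.congr_hom (Scheme.ΓSpecIso_inv_naturality
      (CommRingCat.ofHom (algebraMap A K))) r
    refine (show (Scheme.ΓSpecIso (CommRingCat.of K)).inv (algebraMap A K r) =
      (Spec.map (CommRingCat.ofHom (algebraMap A K))).appTop (c r) from h3) ▸ IsUnit.map _ ?_
    exact isUnit_iff_ne_zero.2 (IsFractionRing.to_map_ne_zero_of_mem_nonZeroDivisors hr)
  refine hu.mul_right_eq_zero.1 ?_
  rw [← map_mul, show a (c r) * x = 0 from hrx, map_zero]

variable {A : Type u} [CommRing A] [IsDomain A] [ValuationRing A]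
  {K : Type u} [Field K] [Algebra A K] [IsFractionRing A K]
  (G : Over (Spec (CommRingCat.of A))) [GrpObj G] [LocallyOfFiniteType G.hom] [QuasiCompact G.hom]
  {H : Over (Spec (CommRingCat.of K))} [GrpObj H]

/-- The flat closure of a closed subgroup of the generic fibre. -/
theorem exists_closure (i : H ⟶ Red.bc (Spec.map (CommRingCat.ofHom (algebraMap A K))) G) [IsMonHom i]
    [IsClosedImmersion i.left] :
    ∃ (Hb : Over (Spec (CommRingCat.of A))) (_ : GrpObj Hb) (incl : Hb ⟶ G),
      IsMonHom incl ∧ IsClosedImmersion incl.left ∧ Flat Hb.hom ∧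
      (∃ e : H ⟶ Red.bc (Spec.map (CommRingCat.ofHom (algebraMap A K))) Hb, IsIso e ∧
        e ≫ (Over.pullback (Spec.map (CommRingCat.ofHom (algebraMap A K)))).map incl = i) ∧
      (Flat G.hom → IsSeparated G.hom → ∀ (m : ℕ) (w : FreeGroup (Fin m)), Law H m w → Law Hb m w) ∧
      (Flat G.hom → AlgGrp.IsNormalHom i → AlgGrp.IsNormalHom incl) ∧
      (Flat G.hom → HasComm i → HasComm incl) := by
  let et := Spec.map (CommRingCat.ofHom (algebraMap A K))
  haveI : IsPreimmersion et := IsPreimmersion.of_isLocalization (nonZeroDivisors A)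
  haveI : Mono et := inferInstance
  haveI hflet : Flat et := (HasRingHomProperty.Spec_iff (P := @Flat)).2
    (RingHom.flat_algebraMap_iff.2 (IsLocalization.flat K (nonZeroDivisors A)))
  haveI : IsSchemeTheoreticallyDominant et :=
    WeilEq.isSchemeTheoreticallyDominant_SpecMap _ (IsFractionRing.injective A K)
  haveI : QuasiCompact et := inferInstance
  let f : H.left ⟶ G.left := i.left ≫ pullback.fst G.hom et
  haveI : QuasiCompact f := inferInstanceAs (QuasiCompact (i.left ≫ pullback.fst G.hom et))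
  haveI := FlatClosure19.isSchemeTheoreticallyDominant_toImage f
  let Hb : Over (Spec (CommRingCat.of A)) := Over.mk (f.imageι ≫ G.hom)
  let incl : Hb ⟶ G := Over.homMk f.imageι rfl
  haveI : IsClosedImmersion incl.left := inferInstanceAs (IsClosedImmersion f.imageι)
  haveI : Mono incl := Over.mono_of_mono_left incl
  have hiw : i.left ≫ pullback.snd G.hom et = H.hom := Over.w i
  have w : f.toImage ≫ Hb.hom = H.hom ≫ et := by
    show f.toImage ≫ f.imageι ≫ G.hom = _
    rw [Scheme.Hom.toImage_imageι_assoc]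
    show (i.left ≫ pullback.fst G.hom et) ≫ G.hom = _
    rw [Category.assoc, pullback.condition, ← Category.assoc, hiw]
  haveI : Flat Hb.hom := flat_of_dominant f.toImage Hb.hom H.hom w
  let e : H ⟶ Red.bc et Hb := Over.homMk (pullback.lift f.toImage H.hom w) (pullback.lift_snd _ _ _)
  have he : e ≫ (Over.pullback et).map incl = i := by
    refine Over.OverMorphism.ext (pullback.hom_ext ?_ ?_)
    · simp [e, incl, f]
    · simp [e, hiw]
  haveI : IsClosedImmersion e.left := by
    haveI : IsClosedImmersion (e.left ≫ ((Over.pullback et).map incl).left) := by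
      rw [← Over.comp_left, he]; infer_instance
    have hc : IsClosedImmersion ((Over.pullback et).map incl).left := by
      have h : IsPullback (pullback.fst Hb.hom et) ((Over.pullback et).map incl).left incl.left (pullback.fst G.hom et) := by
        refine IsPullback.of_bot (v₂₁ := ((Over.pullback et).obj G).hom) (v₂₂ := G.hom) (h₃₁ := et) ?_ ?_
          (IsPullback.of_hasPullback G.hom et)
        · rw [Over.w incl, Over.w ((Over.pullback et).map incl)]
          exact IsPullback.of_hasPullback Hb.hom et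
        · exact (Limits.pullback.lift_fst _ _ _).symm
      exact MorphismProperty.of_isPullback (P := @IsClosedImmersion) h ‹_›
    haveI := hc
    exact IsClosedImmersion.of_comp e.left ((Over.pullback et).map incl).left
  haveI : IsIso e.left := by
    have hsq : IsPullback (𝟙 H.left) e.left f.toImage (pullback.fst Hb.hom et) := by
      refine ⟨⟨by rw [Category.id_comp]; exact (pullback.lift_fst _ _ _).symm⟩,
        ⟨PullbackCone.IsLimit.mk _ (fun s => s.fst)
        (fun s => Category.comp_id _) (fun s => ?_) fun s m h₁ _ => (Category.comp_id m).symm.trans h₁⟩⟩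
      rw [← cancel_mono (pullback.fst Hb.hom et), Category.assoc]
      exact (congrArg (s.fst ≫ ·) (pullback.lift_fst _ _ _)).trans s.condition
    haveI : IsSchemeTheoreticallyDominant e.left := .of_isPullback hsq
    exact IsClosedImmersion.isIso_iff_ker_eq_bot.2 e.left.ker_eq_bot
  haveI : IsIso e := by
    haveI : IsIso ((Over.forget _).map e) := ‹IsIso e.left›
    exact isIso_of_reflects_iso e (Over.forget _)
  have he' : (Over.pullback et).map incl = inv e ≫ i := by rw [← he, IsIso.inv_hom_id_assoc]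
  -- factorization criterion
  have hlift : ∀ {T : Over (Spec (CommRingCat.of A))} [Flat T.hom] (x : T ⟶ G),
      (∃ q : Red.bc et T ⟶ H, q ≫ i = (Over.pullback et).map x) → ∃ l : T ⟶ Hb, l ≫ incl = x := by
    intro T _ x ⟨q, hq⟩
    have hle : f.imageι.ker ≤ x.left.ker := by
      rw [Scheme.Hom.imageι, Scheme.IdealSheafData.ker_subschemeι]
      calc f.ker ≤ (q.left ≫ f).ker := Scheme.Hom.le_ker_comp _ _
        _ = x.left.ker := by
          have h1 : q.left ≫ f = pullback.fst T.hom et ≫ x.left := by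
            show q.left ≫ i.left ≫ pullback.fst G.hom et = _
            rw [← Category.assoc, ← Over.comp_left, hq]
            exact pullback.lift_fst _ _ _
          rw [h1, Scheme.Hom.ker_comp, (pullback.fst T.hom et).ker_eq_bot, Scheme.IdealSheafData.map_bot]
    refine ⟨Over.homMk (IsClosedImmersion.lift f.imageι x.left hle) ?_, Over.OverMorphism.ext (IsClosedImmersion.lift_fac _ _ _)⟩
    show _ ≫ f.imageι ≫ G.hom = _
    rw [IsClosedImmersion.lift_fac_assoc, Over.w x]
  -- words
  have hword : ∀ {m : ℕ} {T : Over (Spec (CommRingCat.of A))} (a : Fin m → (T ⟶ Hb)) (w : FreeGroup (Fin m)),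
      ∃ q : Fin m → (Red.bc et T ⟶ H),
        (Over.pullback et).map (FreeGroup.lift (fun j => a j ≫ incl) w) = FreeGroup.lift q w ≫ i := by
    intro m T a w
    refine ⟨fun j => (Over.pullback et).map (a j) ≫ inv e, ?_⟩
    rw [lift_comp]
    refine (hom_lift ((Over.pullback et).homMonoidHom (X := T) (M := G)) (fun j => a j ≫ incl) w).trans ?_
    congr 2
    funext j
    show (Over.pullback et).map (a j ≫ incl) = _
    rw [Functor.map_comp, he', Category.assoc]
  have hwl : ∀ {m : ℕ} {T : Over (Spec (CommRingCat.of A))} [Flat T.hom] (a : Fin m → (T ⟶ Hb)) (w : FreeGroup (Fin m)),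
      ∃ l : T ⟶ Hb, l ≫ incl = FreeGroup.lift (fun j => a j ≫ incl) w := fun {m T} _ a w => by
    obtain ⟨q, hq⟩ := hword a w
    exact hlift _ ⟨_, hq.symm⟩
  haveI : Flat (Hb ⊗ Hb).hom := inferInstanceAs (Flat (pullback.fst Hb.hom Hb.hom ≫ Hb.hom))
  haveI : Flat (𝟙_ (Over (Spec (CommRingCat.of A)))).hom := inferInstanceAs (Flat (𝟙 _))
  obtain ⟨m₁, hm₁⟩ := hwl ![fst Hb Hb, snd Hb Hb] (FreeGroup.of 0 * FreeGroup.of 1)
  obtain ⟨v₁, hv₁⟩ := hwl ![𝟙 Hb] (FreeGroup.of 0)⁻¹
  obtain ⟨e₁, he₁⟩ := hwl (Fin.elim0 : Fin 0 → (𝟙_ (Over (Spec (CommRingCat.of A))) ⟶ Hb)) 1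
  simp only [map_mul, map_inv, map_one, FreeGroup.lift_apply_of, Matrix.cons_val_zero, Matrix.cons_val_one,
    Category.id_comp] at hm₁ hv₁ he₁
  let gH : GrpObj Hb := SubGrp13.grpObjOfMono incl hm₁ he₁ hv₁
  haveI hinclm : IsMonHom incl := SubGrp13.isMonHom_grpObjOfMono incl hm₁ he₁ hv₁
  refine ⟨Hb, gH, incl, hinclm, inferInstance, inferInstance, ⟨e, inferInstance, he⟩, fun hG hGs m w hw => ?_,
    fun hG hn => ?_, fun hG hc => ?_⟩
  · intro T a
    haveI := hG
    haveI := hGs
    obtain ⟨W, y, hW, hy⟩ := exists_univ Hb m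
    obtain ⟨t, ht⟩ := hy T a
    rw [← funext ht, ← comp_lift]
    suffices h1 : FreeGroup.lift y w = 1 by rw [h1, MonObj.comp_one]
    rw [← cancel_mono incl, lift_comp, MonObj.one_comp]
    obtain ⟨q, hq⟩ := hword y w
    haveI := hW
    refine GrpLaw19.map_injective G et W ?_
    show (Over.pullback et).map _ = (Over.pullback et).homMonoidHom (X := W) (M := G) 1
    rw [hq, hw, MonObj.one_comp, map_one]
  · intro T g n
    haveI := hG
    haveI : Flat (G ⊗ Hb).hom := inferInstanceAs (Flat (pullback.fst G.hom Hb.hom ≫ G.hom))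
    obtain ⟨l, hl⟩ : ∃ l : G ⊗ Hb ⟶ Hb, l ≫ incl = fst G Hb * (snd G Hb ≫ incl) * (fst G Hb)⁻¹ := by
      let g' : Red.bc et (G ⊗ Hb) ⟶ Red.bc et G := (Over.pullback et).map (fst G Hb)
      obtain ⟨n', hn'⟩ := hn _ g' ((Over.pullback et).map (snd G Hb) ≫ inv e)
      refine hlift _ ⟨n', hn'.symm.trans ?_⟩
      show _ = (Over.pullback et).homMonoidHom (X := G ⊗ Hb) (M := G) _
      rw [map_mul, map_mul, map_inv]
      show _ = (Over.pullback et).map (fst G Hb) * (Over.pullback et).map (snd G Hb ≫ incl) * ((Over.pullback et).map (fst G Hb))⁻¹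
      rw [Functor.map_comp, he', Category.assoc]
    refine ⟨lift g n ≫ l, ?_⟩
    rw [Category.assoc, hl, MonObj.comp_mul, MonObj.comp_mul, GrpObj.comp_inv, lift_fst, lift_snd_assoc]
  · intro T g h
    haveI := hG
    haveI : Flat (G ⊗ G).hom := inferInstanceAs (Flat (pullback.fst G.hom G.hom ≫ G.hom))
    obtain ⟨l, hl⟩ : ∃ l : G ⊗ G ⟶ Hb, l ≫ incl = fst G G * snd G G * (fst G G)⁻¹ * (snd G G)⁻¹ := by
      obtain ⟨q, hq⟩ := hc _ ((Over.pullback et).map (fst G G)) ((Over.pullback et).map (snd G G))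
      refine hlift _ ⟨q, hq.symm.trans ?_⟩
      show _ = (Over.pullback et).homMonoidHom (X := G ⊗ G) (M := G) _
      rw [map_mul, map_mul, map_mul, map_inv, map_inv]
      rfl
    refine ⟨lift g h ≫ l, ?_⟩
    rw [Category.assoc, hl, MonObj.comp_mul, MonObj.comp_mul, MonObj.comp_mul, GrpObj.comp_inv, GrpObj.comp_inv,
      lift_fst, lift_snd]

/-- The special fibre of a flat subgroup has the dimension of the generic one. -/
theorem dim_special {Hb : Over (Spec (CommRingCat.of A))} [GrpObj Hb] [Flat Hb.hom] [LocallyOfFiniteType Hb.hom]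
    {k : Type u} [Field k] (r : A →+* k) (hr : Function.Surjective r) :
    topologicalKrullDim (Red.bc (Spec.map (CommRingCat.ofHom r)) Hb).left =
      topologicalKrullDim (Red.bc (Spec.map (CommRingCat.ofHom (algebraMap A K))) Hb).left := by
  let c := Spec.map (CommRingCat.ofHom r)
  let et := Spec.map (CommRingCat.ofHom (algebraMap A K))
  haveI : IsPreimmersion et := IsPreimmersion.of_isLocalization (nonZeroDivisors A)
  haveI : IsClosedImmersion c := IsClosedImmersion.spec_of_surjective (CommRingCat.ofHom r) hr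
  let F := Red.bc c Hb
  let E := Red.bc et Hb
  haveI : LocallyOfFiniteType F.hom := inferInstanceAs (LocallyOfFiniteType (pullback.snd Hb.hom c))
  haveI : LocallyOfFiniteType E.hom := inferInstanceAs (LocallyOfFiniteType (pullback.snd Hb.hom et))
  let π := pullback.fst Hb.hom c
  let ρ := pullback.fst Hb.hom et
  let gam : Spec (CommRingCat.of A) := (⟨⊥, Ideal.isPrime_bot⟩ : PrimeSpectrum A)
  let cl : Spec (CommRingCat.of A) := IsLocalRing.closedPoint A
  have hcl : c (IsLocalRing.closedPoint k) = cl := by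
    refine PrimeSpectrum.ext ?_
    show Ideal.comap r (IsLocalRing.closedPoint k).asIdeal = IsLocalRing.maximalIdeal A
    rw [show (IsLocalRing.closedPoint k).asIdeal = ⊥ from IsLocalRing.maximalIdeal_eq_bot, ← RingHom.ker_eq_comap_bot]
    exact IsLocalRing.eq_maximalIdeal (RingHom.ker_isMaximal_of_surjective r hr)
  have het : et (IsLocalRing.closedPoint K) = gam := by
    refine PrimeSpectrum.ext ?_
    show Ideal.comap (algebraMap A K) (IsLocalRing.closedPoint K).asIdeal = ⊥
    rw [show (IsLocalRing.closedPoint K).asIdeal = ⊥ from IsLocalRing.maximalIdeal_eq_bot, ← RingHom.ker_eq_comap_bot]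
    exact (RingHom.injective_iff_ker_eq_bot _).1 (IsFractionRing.injective A K)
  have hπr : Set.range π = Hb.hom ⁻¹' {cl} := by
    refine (Scheme.Pullback.range_fst Hb.hom c).trans (congrArg _ ?_)
    refine Set.Subset.antisymm ?_ (Set.singleton_subset_iff.2 ⟨_, hcl⟩)
    rintro _ ⟨z, rfl⟩
    rw [Set.mem_singleton_iff, Subsingleton.elim (α := PrimeSpectrum k) z (IsLocalRing.closedPoint k), hcl]
  have hρr : Set.range ρ = Hb.hom ⁻¹' {gam} := by
    refine (Scheme.Pullback.range_fst Hb.hom et).trans (congrArg _ ?_)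
    refine Set.Subset.antisymm ?_ (Set.singleton_subset_iff.2 ⟨_, het⟩)
    rintro _ ⟨z, rfl⟩
    rw [Set.mem_singleton_iff, Subsingleton.elim (α := PrimeSpectrum K) z (IsLocalRing.closedPoint K), het]
  haveI : Nonempty F.left := ⟨η[F].left (IsLocalRing.closedPoint k)⟩
  let C := irreducibleComponent (Classical.arbitrary F.left)
  have hC : C ∈ irreducibleComponents F.left := irreducibleComponent_mem_irreducibleComponents _
  obtain ⟨Y, hY, hCY⟩ := exists_mem_irreducibleComponents_subset_of_isIrreducible (π '' C)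
    (hC.1.image _ π.continuous.continuousOn)
  have hYc : IsClosed Y := isClosed_of_mem_irreducibleComponents Y hY
  have hy := hY.1.isGenericPoint_genericPoint hYc
  set y₀ := hY.1.genericPoint with hy₀def
  have hmax : ∀ z, z ⤳ y₀ → z = y₀ := by
    intro z hz
    have h1 : Y ⊆ closure {z} := fun v hv => specializes_iff_mem_closure.1 (hz.trans (hy.specializes hv))
    have h2 : closure {z} = Y := le_antisymm (hY.2 isIrreducible_singleton.closure h1) h1
    have hz' : IsGenericPoint z Y := h2
    exact hz'.eq hy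
  have hy₀ : Hb.hom y₀ = gam := by
    obtain ⟨z, hz, hz'⟩ := Flat.generalizingMap Hb.hom
      ((PrimeSpectrum.le_iff_specializes gam (Hb.hom y₀)).1 bot_le)
    rw [← hmax z hz, hz']
  let I := Scheme.IdealSheafData.vanishingIdeal (⟨Y, hYc⟩ : TopologicalSpace.Closeds Hb.left)
  let ι' := I.subschemeι
  have hιr : Set.range ι' = Y := by
    show Set.range I.subschemeι = _
    rw [Scheme.IdealSheafData.range_subschemeι, Scheme.IdealSheafData.coe_support_vanishingIdeal]
    rfl
  haveI : IrreducibleSpace I.subscheme := irreducibleSpace_of_range ι'.isEmbedding (hιr ▸ hY.1)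
  let g := ι' ≫ Hb.hom
  have hfib : ∀ v, Set.range (g.fiberι v ≫ ι') = Y ∩ Hb.hom ⁻¹' {v} := by
    intro v
    rw [Scheme.Hom.comp_base, TopCat.coe_comp, Set.range_comp, Scheme.Hom.range_fiberι]
    ext x
    constructor
    · rintro ⟨y, hy', rfl⟩
      refine ⟨hιr ▸ ⟨y, rfl⟩, ?_⟩
      rw [Set.mem_preimage, ← Scheme.Hom.comp_apply]
      exact hy'
    · rintro ⟨hx, hx'⟩
      obtain ⟨y, rfl⟩ := hιr ▸ hx
      refine ⟨y, ?_, rfl⟩
      rw [Set.mem_preimage, Scheme.Hom.comp_apply]
      exact hx'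
  obtain ⟨x₀, hx₀⟩ := hC.1.1
  haveI : IsReduced I.subscheme := RedSepLib.isReduced_vanishingIdeal_subscheme _
  haveI : IsIntegral I.subscheme := isIntegral_of_irreducibleSpace_of_isReduced _
  obtain ⟨w₀, hw₀⟩ : y₀ ∈ Set.range ι' := hιr ▸ hy.mem
  have hgw₀ : g w₀ = gam := by rw [Scheme.Hom.comp_apply, hw₀, hy₀]
  haveI : IsDominant g := ⟨fun v =>
    (closure_mono (s := ({gam} : Set (Spec (CommRingCat.of A)))) (t := Set.range g)
      (fun z hz => ⟨w₀, hgw₀.trans hz.symm⟩))
      (specializes_iff_mem_closure.1 ((PrimeSpectrum.le_iff_specializes gam v).1 bot_le))⟩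
  haveI : Flat g := flat_of_isIntegral g
  obtain ⟨w₁, hw₁⟩ : π x₀ ∈ Set.range ι' := hιr ▸ hCY ⟨x₀, hx₀, rfl⟩
  have hgw₁ : g w₁ = cl := by
    rw [Scheme.Hom.comp_apply, hw₁]
    exact Set.mem_singleton_iff.1 (show π x₀ ∈ Hb.hom ⁻¹' {cl} from hπr ▸ ⟨x₀, rfl⟩)
  haveI : Surjective g := ⟨fun v => by
    have hv : v ⤳ cl := (PrimeSpectrum.le_iff_specializes v cl).1 (IsLocalRing.le_maximalIdeal v.isPrime.ne_top)
    obtain ⟨z, -, hz⟩ := Flat.generalizingMap g (hgw₁ ▸ hv)
    exact ⟨z, hz⟩⟩
  -- generic side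
  let M := ρ ⁻¹' Y
  obtain ⟨m₀, hm₀⟩ : y₀ ∈ Set.range ρ := hρr ▸ hy₀
  have hMc : M = closure {m₀} := by
    rw [ρ.isEmbedding.isInducing.closure_eq_preimage_closure_image, Set.image_singleton, hm₀, hy.def]
  have hM : M ∈ irreducibleComponents E.left := by
    refine ⟨hMc ▸ isIrreducible_singleton.closure, fun B hB hle x hx => ?_⟩
    have hg := hB.closure.isGenericPoint_genericPoint isClosed_closure
    have h1 : hB.closure.genericPoint ⤳ m₀ := hg.specializes (subset_closure (hle (hMc ▸ subset_closure rfl)))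
    have h2 : ρ hB.closure.genericPoint = y₀ := hmax _ (hm₀ ▸ h1.map ρ.continuous)
    have h3 : hB.closure.genericPoint = m₀ := ρ.isEmbedding.injective (h2.trans hm₀.symm)
    rw [hMc, ← specializes_iff_mem_closure, ← h3]
    exact hg.specializes (subset_closure hx)
  have hgen : topologicalKrullDim ↥(g.fiber gam) = topologicalKrullDim M := by
    refine dim_eq_of_range_eq (g.fiberι gam ≫ ι').isEmbedding
      (ρ.isEmbedding.comp Topology.IsEmbedding.subtypeVal) ?_
    rw [hfib, Set.range_comp, Subtype.range_coe, Set.image_preimage_eq_inter_range, hρr]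
  -- special side
  let φ : π ⁻¹' Y ≃ₜ ↥(g.fiber cl) :=
    (π.isEmbedding.comp Topology.IsEmbedding.subtypeVal).toHomeomorph.trans
      ((Homeomorph.setCongr (by rw [hfib, Set.range_comp, Subtype.range_coe, Set.image_preimage_eq_inter_range, hπr])).trans
        (g.fiberι cl ≫ ι').isEmbedding.toHomeomorph.symm)
  have hCY' : C ⊆ π ⁻¹' Y := fun x hx => hCY ⟨x, hx, rfl⟩
  let C' : Set ↥(π ⁻¹' Y) := Subtype.val ⁻¹' C
  have hC'r : Subtype.val '' C' = C := by
    rw [Set.image_preimage_eq_inter_range, Subtype.range_coe, Set.inter_eq_left.2 hCY']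
  have hC'i : IsIrreducible C' := by
    refine ⟨⟨⟨x₀, hCY' hx₀⟩, hx₀⟩, ?_⟩
    intro U V hU hV ⟨u, hu, huU⟩ ⟨v, hv, hvV⟩
    obtain ⟨U', hU', rfl⟩ := isOpen_induced_iff.1 hU
    obtain ⟨V', hV', rfl⟩ := isOpen_induced_iff.1 hV
    obtain ⟨z, hz, hzU, hzV⟩ := hC.1.2 U' V' hU' hV' ⟨u.1, hu, huU⟩ ⟨v.1, hv, hvV⟩
    exact ⟨⟨z, hCY' hz⟩, hz, hzU, hzV⟩
  have hC' : φ '' C' ∈ irreducibleComponents ↥(g.fiber cl) := by
    refine ⟨hC'i.image _ φ.continuous.continuousOn, fun B hB hle => ?_⟩
    have h1 : Subtype.val '' (φ.symm '' B) ⊆ C := hC.2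
      ((hB.image _ φ.symm.continuous.continuousOn).image _ continuous_subtype_val.continuousOn)
      (fun x hx => by
        rw [← hC'r] at hx
        obtain ⟨z, hz, rfl⟩ := hx
        exact ⟨z, ⟨φ z, hle ⟨z, hz, rfl⟩, φ.symm_apply_apply z⟩, rfl⟩)
    exact fun x hx => ⟨φ.symm x, h1 ⟨_, ⟨x, hx, rfl⟩, rfl⟩, φ.apply_symm_apply x⟩
  have h3 := S7624.result A I.subscheme g _ hC'
  rw [hgen, GrpCM20.dim_component E M hM] at h3
  rw [← h3, ← GrpCM20.dim_component F C hC]
  refine dim_eq_of_range_eq Topology.IsEmbedding.subtypeVal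
    (Topology.IsEmbedding.subtypeVal.comp (φ.symm.isEmbedding.comp Topology.IsEmbedding.subtypeVal)) ?_
  rw [Subtype.range_coe, Set.range_comp, Set.range_comp, Subtype.range_coe, ← Set.image_comp, ← Set.image_comp]
  refine hC'r.symm.trans ?_
  refine Set.image_congr fun z _ => ?_
  simp

end Groth.Agent.SubSpec19
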