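import Groth.Agent.Lib.SubSpec19.Stable
import Groth.Agent.Lib.NeronIsog19.Basic
import Groth.Agent.Lib.FrobSub19.Basic

/-!
# Subgroups under extensions of algebraically closed fields
-/

set_option autoImplicit false
set_option linter.style.haveILetI false
set_option backward.isDefEq.respectTransparency false
set_option backward.isDefEq.respectTransparency.types false
universe u

open CategoryTheory CategoryTheory.Limits MonoidalCategory CartesianMonoidalCategory MonObj GrpObj AlgebraicGeometry

namespace Groth.Agent.SubSpec19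

/-- The projection from a trivial base change is an isomorphism of groups. -/
theorem exists_iso_bc_id {S : Scheme.{u}} (G : Over S) [GrpObj G] :
    ∃ p : Red.bc (𝟙 S) G ⟶ G, IsMonHom p ∧ IsIso p.left := by
  let p : Red.bc (𝟙 S) G ⟶ G := Over.homMk (pullback.fst G.hom (𝟙 S)) (by
    show _ ≫ G.hom = pullback.snd G.hom (𝟙 S)
    rw [pullback.condition, Category.comp_id])
  let θ : ∀ T : Over S, T ⟶ (Over.map (𝟙 S)).obj T := fun T => Over.homMk (𝟙 T.left) (by simp)
  have hp : ∀ (T : Over S) (a : T ⟶ Red.bc (𝟙 S) G), a ≫ p = θ T ≫ (bcPts (𝟙 S) T).symm a := by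
    intro T a
    ext1
    simp only [Over.comp_left, bcPts_symm_left]
    exact (Category.id_comp _).symm
  have hone : η[Red.bc (𝟙 S) G] ≫ p = η[G] := by
    have h1 : (1 : 𝟙_ (Over S) ⟶ Red.bc (𝟙 S) G) ≫ p = 1 := by rw [hp, map_one, MonObj.comp_one]
    rwa [Hom.one_def, Hom.one_def, toUnit_unique (toUnit (𝟙_ (Over S))) (𝟙 _), Category.id_comp, Category.id_comp] at h1
  have hmul : μ[Red.bc (𝟙 S) G] ≫ p = (p ⊗ₘ p) ≫ μ[G] := by
    have h2 : (fst (Red.bc (𝟙 S) G) (Red.bc (𝟙 S) G) * snd _ _) ≫ p =
        (fst _ _ ≫ p) * (snd _ _ ≫ p) := by rw [hp, hp, hp, map_mul, MonObj.comp_mul]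
    rw [Hom.mul_def, lift_fst_snd, Category.id_comp] at h2
    rw [h2, Hom.mul_def, lift_fst_comp_snd_comp]
  exact ⟨p, ⟨hone, hmul⟩, inferInstanceAs (IsIso (pullback.fst G.hom (𝟙 S)))⟩

/-- Subgroups descend from an algebraically closed extension, keeping dimension and laws. -/
theorem exists_of_extension {k : Type u} [Field k] [IsAlgClosed k] {F : Type u} [Field F] [IsAlgClosed F] [Algebra k F]
    (G : Over (Spec (CommRingCat.of k))) [GrpObj G] [LocallyOfFiniteType G.hom] [QuasiCompact G.hom]
    {U : Over (Spec (CommRingCat.of F))} [GrpObj U]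
    (i : U ⟶ Red.bc (Spec.map (CommRingCat.ofHom (algebraMap k F))) G) [IsMonHom i] [IsClosedImmersion i.left]
    [Smooth U.hom] [ConnectedSpace U.left] :
    ∃ (U' : Over (Spec (CommRingCat.of k))) (_ : GrpObj U') (i' : U' ⟶ G),
      IsMonHom i' ∧ IsClosedImmersion i'.left ∧ Smooth U'.hom ∧ ConnectedSpace U'.left ∧
      topologicalKrullDim U.left ≤ topologicalKrullDim U'.left ∧
      ∀ (m : ℕ) (w : FreeGroup (Fin m)), Law U m w → Law U' m w := by
  haveI : LocallyOfFinitePresentation G.hom := inferInstance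
  have hg : PlaceRat28.IsGraph (⊥ : Subalgebra k (F × k)) := by
    intro c hc
    obtain ⟨d, hd⟩ := Algebra.mem_bot.1 hc
    have h0 : algebraMap k F d = 0 := congrArg Prod.fst hd
    have hc' : algebraMap k k d = c := congrArg Prod.snd hd
    rw [← hc', (algebraMap k F).injective (h0.trans (map_zero _).symm), map_zero]
  obtain ⟨V, res, hres, -, -⟩ := PlaceRat28.exists_valuationSubring (⊥ : Subalgebra k (F × k)) hg
  choose hmem hval using hres
  let ι₃ : k →+* V := (algebraMap k F).codRestrict V.toSubring hmem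
  have hb : Spec.map (CommRingCat.ofHom (algebraMap V F)) ≫ Spec.map (CommRingCat.ofHom ι₃) =
      Spec.map (CommRingCat.ofHom (algebraMap k F)) := by
    rw [← Spec.map_comp]; rfl
  have hb' : Spec.map (CommRingCat.ofHom res) ≫ Spec.map (CommRingCat.ofHom ι₃) = 𝟙 _ := by
    rw [← Spec.map_comp,
      show CommRingCat.ofHom ι₃ ≫ CommRingCat.ofHom res = 𝟙 _ from CommRingCat.hom_ext (RingHom.ext hval),
      Spec.map_id]
  obtain ⟨U', hU', i', h1, h2, h3, h4, hd, hlaw⟩ :=
    exists_special_over G V res (fun c => ⟨ι₃ c, hval c⟩) (Spec.map (CommRingCat.ofHom ι₃)) hb hb' i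
  haveI := h1
  haveI := h2
  obtain ⟨p, hp, hpi⟩ := exists_iso_bc_id G
  haveI := hp
  haveI := hpi
  exact ⟨U', hU', i' ≫ p, inferInstance, inferInstanceAs (IsClosedImmersion (i'.left ≫ p.left)), h3, h4, hd, hlaw⟩

/-- The base change of a smooth connected subgroup. -/
theorem exists_bc {k : Type u} [Field k] {F : Type u} [Field F] (σ : Spec (CommRingCat.of F) ⟶ Spec (CommRingCat.of k))
    (G : Over (Spec (CommRingCat.of k))) [GrpObj G]
    {U : Over (Spec (CommRingCat.of k))} [GrpObj U] (i : U ⟶ G) [IsMonHom i] [IsClosedImmersion i.left]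
    [Smooth U.hom] [ConnectedSpace U.left] :
    IsClosedImmersion ((Over.pullback σ).map i).left ∧ Smooth (Red.bc σ U).hom ∧ ConnectedSpace (Red.bc σ U).left ∧
      topologicalKrullDim (Red.bc σ U).left = topologicalKrullDim U.left := by
  haveI : GeometricallyConnected U.hom := GrpGen20.geometricallyConnected_of_connected U
  refine ⟨FrobSub19.isClosedImmersion_map σ i ‹_›, inferInstanceAs (Smooth (pullback.snd U.hom σ)),
    GeometricallyConnected.geometrically_connectedSpace _ _ _ (IsPullback.of_hasPullback U.hom σ), ?_⟩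
  rw [NeronIsog19.dim_pullback_field U σ]
  have : U.hom ⁻¹' {σ (IsLocalRing.closedPoint F)} = Set.univ :=
    Set.eq_univ_of_forall fun x => Subsingleton.elim (α := PrimeSpectrum k) _ _
  rw [this]
  exact IsHomeomorph.topologicalKrullDim_eq _ (Homeomorph.Set.univ _).isHomeomorph

end Groth.Agent.SubSpec19
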