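import Groth.Agent.Lib.SubSpec19.Core
import Groth.Agent.Lib.GrpLaw19.Series
import Groth.Prelude.Def_AGF
import Groth.Prelude.Def_Red2

/-!
# Commutativity, solvability and nilpotency as systems of laws
-/

set_option autoImplicit false
set_option linter.style.haveILetI false
set_option backward.isDefEq.respectTransparency false
set_option backward.isDefEq.respectTransparency.types false
universe u

open CategoryTheory CategoryTheory.Limits MonoidalCategory CartesianMonoidalCategory MonObj GrpObj AlgebraicGeometry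

namespace Groth.Agent.SubSpec19

theorem map_lowerCentralSeries_eq {A B : Type*} [Group A] [Group B] (f : A →* B) (hf : Function.Surjective f) :
    ∀ n, ((⊤ : Subgroup A).lowerCentralSeries n).map f = (⊤ : Subgroup B).lowerCentralSeries n
  | 0 => by simpa [← MonoidHom.range_eq_map] using MonoidHom.range_eq_top.2 hf
  | n + 1 => by
    rw [Subgroup.lowerCentralSeries_succ, Subgroup.lowerCentralSeries_succ, Subgroup.map_commutator,
      map_lowerCentralSeries_eq f hf n, ← MonoidHom.range_eq_map, MonoidHom.range_eq_top.2 hf]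

variable {S S' : Scheme.{u}} {G : Over S} [GrpObj G] {G' : Over S'} [GrpObj G']

/-- Commutativity is a law. -/
theorem isCommMonObj_of_laws (h : ∀ (m : ℕ) (w : FreeGroup (Fin m)), Law G m w → Law G' m w) [IsCommMonObj G] :
    IsCommMonObj G' := by
  have hc : ∀ (T : Over S') (x y : T ⟶ G'), x * y = y * x := by
    intro T x y
    have h1 := h 2 (FreeGroup.of 0 * FreeGroup.of 1 * (FreeGroup.of 0)⁻¹ * (FreeGroup.of 1)⁻¹)
      (fun T a => by simp [mul_comm (a 0) (a 1)]) T ![x, y]
    simp only [map_mul, map_inv, FreeGroup.lift_apply_of, Matrix.cons_val_zero, Matrix.cons_val_one] at h1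
    rwa [mul_inv_eq_one, mul_inv_eq_iff_eq_mul] at h1
  refine ⟨?_⟩
  have h2 := hc _ (fst G' G') (snd G' G')
  simp only [Hom.mul_def, lift_fst_snd, Category.id_comp] at h2
  rw [show (β_ G' G').hom = lift (snd G' G') (fst G' G') from CartesianMonoidalCategory.hom_ext _ _ (by simp) (by simp)]
  exact h2.symm

/-- Solvability is a system of laws. -/
theorem isSolvableGrp_of_laws (h : ∀ (m : ℕ) (w : FreeGroup (Fin m)), Law G m w → Law G' m w)
    (hG : Red.IsSolvableGrp G) : Red.IsSolvableGrp G' := by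
  obtain ⟨n, hn⟩ := hG
  refine ⟨n, fun T => GrpLaw19.derivedSeries_eq_bot_of_local fun m a => ?_⟩
  let φ := FreeGroup.lift a
  have hlaw : ∀ w ∈ derivedSeries (FreeGroup (Fin m)) n, φ w = 1 := fun w hw => h m w (fun T' b => by
    have h1 := map_derivedSeries_le_derivedSeries (FreeGroup.lift b) n ⟨w, hw, rfl⟩
    rw [hn T', Subgroup.mem_bot] at h1
    exact h1) T a
  refine ⟨φ.range, inferInstance, φ.range.subtype,
    fun i => ⟨⟨a i, ⟨FreeGroup.of i, FreeGroup.lift_apply_of⟩⟩, rfl⟩, ?_⟩
  rw [eq_bot_iff, ← map_derivedSeries_eq φ.rangeRestrict_surjective n]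
  rintro _ ⟨w, hw, rfl⟩
  exact Subtype.ext (hlaw w hw)

/-- Nilpotency is a system of laws. -/
theorem isNilpotentGrp_of_laws (h : ∀ (m : ℕ) (w : FreeGroup (Fin m)), Law G m w → Law G' m w)
    (hG : AGF.IsNilpotentGrp G) : AGF.IsNilpotentGrp G' := by
  obtain ⟨n, hn⟩ := hG
  refine ⟨n, fun T => GrpLaw19.upperCentralSeries_eq_top_of_local fun m a => ?_⟩
  let φ := FreeGroup.lift a
  have hlaw : ∀ w ∈ (⊤ : Subgroup (FreeGroup (Fin m))).lowerCentralSeries n, φ w = 1 := fun w hw =>
    h m w (fun T' b => by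
      have h1 : FreeGroup.lift b w ∈ (⊤ : Subgroup (T' ⟶ G)).lowerCentralSeries n :=
        Subgroup.lowerCentralSeries.map (FreeGroup.lift b) n ⟨w, hw, rfl⟩
      rw [Subgroup.lowerCentralSeries_eq_bot_iff_upperCentralSeries_eq_top.2 (hn T'), Subgroup.mem_bot] at h1
      exact h1) T a
  refine ⟨φ.range, inferInstance, φ.range.subtype,
    fun i => ⟨⟨a i, ⟨FreeGroup.of i, FreeGroup.lift_apply_of⟩⟩, rfl⟩, ?_⟩
  refine Subgroup.lowerCentralSeries_eq_bot_iff_upperCentralSeries_eq_top.1 ((Subgroup.eq_bot_iff_forall _).2 fun x hx => ?_)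
  rw [← map_lowerCentralSeries_eq φ.rangeRestrict φ.rangeRestrict_surjective n] at hx
  obtain ⟨w, hw, rfl⟩ := hx
  exact Subtype.ext (hlaw w hw)

end Groth.Agent.SubSpec19
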