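import Groth.Agent.Lib.SubSpec19.DVR
import Groth.Agent.Lib.SubSpec19.Laws
import Groth.Agent.Lib.SpreadSub19.Basic
import Groth.Agent.Lib.FrobSub19.Basic
import Groth.Agent.Lib.RegLoc.Basic

/-!
# Specialisation of subgroups over a regular local ring
-/

set_option autoImplicit false
set_option linter.style.haveILetI false
set_option backward.isDefEq.respectTransparency false
set_option backward.isDefEq.respectTransparency.types false
universe u

open CategoryTheory CategoryTheory.Limits MonoidalCategory CartesianMonoidalCategory MonObj GrpObj AlgebraicGeometry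

namespace Groth.Agent.SubSpec19

/-- Normal subgroups stay normal under base change. -/
theorem normal_bc {S S' : Scheme.{u}} (f : S' ⟶ S) {G N : Over S} [GrpObj G] [GrpObj N] {i : N ⟶ G}
    (hn : AlgGrp.IsNormalHom i) : AlgGrp.IsNormalHom ((Over.pullback f).map i) := by
  intro T g n
  obtain ⟨n', hn'⟩ := hn _ ((bcPts f T).symm g) ((bcPts f T).symm n)
  have hnat : ∀ x : T ⟶ Red.bc f N,
      (bcPts f T).symm (x ≫ (Over.pullback f).map i) = (bcPts f T).symm x ≫ i := by
    intro x
    ext1
    rw [Over.comp_left, bcPts_symm_left, bcPts_symm_left, Over.comp_left, Category.assoc, Category.assoc]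
    exact congrArg (x.left ≫ ·) (pullback.lift_fst _ _ _)
  refine ⟨bcPts f T n', (bcPts f T).symm.injective ?_⟩
  rw [map_mul, map_mul, map_inv, hnat, hnat, MulEquiv.symm_apply_apply, hn']

/-- Composing a normal subgroup with an isomorphism of groups. -/
theorem normal_comp_iso {S : Scheme.{u}} {G G' N : Over S} [GrpObj G] [GrpObj G'] [GrpObj N] {i : N ⟶ G}
    (hn : AlgGrp.IsNormalHom i) (e : G ⟶ G') [IsMonHom e] [IsIso e] : AlgGrp.IsNormalHom (i ≫ e) := by
  intro T g n
  obtain ⟨n', hn'⟩ := hn T (g ≫ inv e) n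
  refine ⟨n', ?_⟩
  rw [← Category.assoc n' i e, ← hn', MonObj.mul_comp, MonObj.mul_comp, GrpObj.inv_comp, Category.assoc, Category.assoc,
    IsIso.inv_hom_id, Category.comp_id]

/-- A subgroup with the dimension and the properties of a given one. -/
def Spz {T₁ T₂ : Scheme.{u}} (H : Over T₁) [GrpObj H] (Sep Nrm : Prop) (G' : Over T₂) [GrpObj G'] : Prop :=
  ∃ (H' : Over T₂) (_ : GrpObj H') (i' : H' ⟶ G'), IsMonHom i' ∧ IsClosedImmersion i'.left ∧
    topologicalKrullDim H'.left = topologicalKrullDim H.left ∧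
    (Sep → ∀ (m : ℕ) (w : FreeGroup (Fin m)), Law H m w → Law H' m w) ∧
    (Nrm → AlgGrp.IsNormalHom i')

theorem Spz.comp {T₁ T₂ : Scheme.{u}} {H : Over T₁} [GrpObj H] {Sep Nrm : Prop} {G' G'' : Over T₂} [GrpObj G'] [GrpObj G'']
    (h : Spz H Sep Nrm G') (e : G' ≅ G'') (he : IsMonHom e.hom) : Spz H Sep Nrm G'' := by
  obtain ⟨H', gH, i', h1, h2, h3, h4, h5⟩ := h
  haveI := he; haveI := h1; haveI := h2
  haveI : IsIso e.hom.left := inferInstanceAs (IsIso ((Over.forget _).map e.hom))
  exact ⟨H', gH, i' ≫ e.hom, inferInstance, inferInstanceAs (IsClosedImmersion (i'.left ≫ e.hom.left)), h3, h4,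
    fun hN => normal_comp_iso (h5 hN) e.hom⟩

/-- The step over a discrete valuation ring. -/
theorem spz_dvr {A : Type u} [CommRing A] [IsDomain A] [IsDiscreteValuationRing A] (K : Type u) [Field K] [Algebra A K]
    [IsFractionRing A K] (G : Over (Spec (CommRingCat.of A))) [GrpObj G] [Flat G.hom]
    [LocallyOfFinitePresentation G.hom] [QuasiCompact G.hom] {k : Type u} [Field k] (r : A →+* k)
    (hr : Function.Surjective r) {H : Over (Spec (CommRingCat.of K))} [GrpObj H]
    (i : H ⟶ Red.bc (Spec.map (CommRingCat.ofHom (algebraMap A K))) G) [IsMonHom i] [IsClosedImmersion i.left] :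
    Spz H (IsSeparated G.hom) (AlgGrp.IsNormalHom i) (Red.bc (Spec.map (CommRingCat.ofHom r)) G) := by
  obtain ⟨Hb, gH, incl, h1, h2, h3, ⟨e, he, -⟩, hlaw, hnrm, -⟩ := exists_closure G i
  let c := Spec.map (CommRingCat.ofHom r)
  haveI := h1; haveI := h2; haveI := h3; haveI := he
  haveI : LocallyOfFiniteType Hb.hom := Over.w incl ▸ inferInstanceAs (LocallyOfFiniteType (incl.left ≫ G.hom))
  refine ⟨Red.bc c Hb, inferInstance, (Over.pullback c).map incl, inferInstance,
    FrobSub19.isClosedImmersion_map c incl h2, ?_, fun hs m w hw => law_bc c (hlaw ‹_› hs m w hw),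
    fun hN => normal_bc c (hnrm ‹_› hN)⟩
  haveI : IsIso e.left := inferInstanceAs (IsIso ((Over.forget _).map e))
  rw [dim_special (K := K) r hr]
  exact ((Scheme.homeoOfIso (asIso e.left)).isHomeomorph.topologicalKrullDim_eq _).symm

/-- Subgroups of the generic fibre specialise over a regular local ring. -/
theorem spz_regular : ∀ (n : ℕ) (A : Type u) [CommRing A] [IsDomain A] [IsRegularLocalRing A],
    (IsLocalRing.maximalIdeal A).spanFinrank = n → ∀ (K : Type u) [Field K] [Algebra A K] [IsFractionRing A K]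
    (G : Over (Spec (CommRingCat.of A))) [GrpObj G] [Flat G.hom] [LocallyOfFinitePresentation G.hom]
    [QuasiCompact G.hom] {k : Type u} [Field k] (r : A →+* k) (_ : Function.Surjective r)
    {H : Over (Spec (CommRingCat.of K))} [GrpObj H]
    (i : H ⟶ Red.bc (Spec.map (CommRingCat.ofHom (algebraMap A K))) G) [IsMonHom i] [IsClosedImmersion i.left],
    Spz H (IsSeparated G.hom) (AlgGrp.IsNormalHom i) (Red.bc (Spec.map (CommRingCat.ofHom r)) G) := by
  intro n
  induction n using Nat.strong_induction_on with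
  | _ n ih =>
  intro A _ _ _ hn K _ _ _ G _ _ _ _ k _ r hr H _ i _ _
  by_cases hF : IsField A
  · letI := hF.toField
    have hb : Function.Bijective (algebraMap A K) :=
      ⟨IsFractionRing.injective A K, fun z => by
        obtain ⟨a, s, hs, rfl⟩ := IsFractionRing.div_surjective (A := A) z
        exact ⟨a / s, map_div₀ _ a s⟩⟩
    let ψ := RingEquiv.ofBijective _ hb
    have hrb : Function.Bijective r := ⟨r.injective, hr⟩
    let θ : K →+* k := r.comp ψ.symm.toRingHom
    have hθ : θ.comp (algebraMap A K) = r := RingHom.ext fun a => congrArg r (ψ.symm_apply_apply a)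
    have hθb : Function.Bijective θ := hrb.comp ψ.symm.bijective
    let b := Spec.map (CommRingCat.ofHom θ)
    haveI : IsIso (CommRingCat.ofHom θ) := (ConcreteCategory.isIso_iff_bijective _).2 hθb
    haveI : IsIso b := inferInstanceAs (IsIso (Spec.map _))
    have hbc : b ≫ Spec.map (CommRingCat.ofHom (algebraMap A K)) = Spec.map (CommRingCat.ofHom r) := by
      rw [← Spec.map_comp, ← CommRingCat.ofHom_comp, hθ]
    refine Spz.comp ?_ (SpreadSub19.bcComp _ b hbc G) (SpreadSub19.bcComp_isMonHom _ b hbc G)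
    refine ⟨Red.bc b H, inferInstance, (Over.pullback b).map i, inferInstance,
      FrobSub19.isClosedImmersion_map b i ‹_›, ?_, fun _ m w hw => law_bc b hw, fun hN => normal_bc b hN⟩
    haveI : IsIso (pullback.fst H.hom b) := inferInstance
    exact (Scheme.homeoOfIso (asIso (pullback.fst H.hom b))).isHomeomorph.topologicalKrullDim_eq _
  obtain ⟨x, hx, hx2, -⟩ := RegLoc.exists_mem_notMem_sq_notMem_minimalPrimes hF
  obtain ⟨hregB, hlt⟩ := RegLoc.quotient_span_singleton hx hx2
  haveI := hregB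
  haveI := RegLoc.isDomain (A ⧸ Ideal.span {x})
  let p := Ideal.span ({x} : Set A)
  haveI hp : p.IsPrime := (Ideal.Quotient.isDomain_iff_prime _).1 ‹_›
  have hx0 : x ≠ 0 := fun h => hx2 (h ▸ zero_mem _)
  let Ap := Localization.AtPrime p
  haveI : IsNoetherianRing Ap := IsLocalization.isNoetherianRing p.primeCompl Ap inferInstance
  have hmax : IsLocalRing.maximalIdeal Ap = Ideal.span {algebraMap A Ap x} := by
    rw [← IsLocalization.AtPrime.map_eq_maximalIdeal p Ap, Ideal.map_span, Set.image_singleton]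
  have hxp : algebraMap A Ap x ≠ 0 := fun h => hx0
    (IsLocalization.injective Ap (Ideal.primeCompl_le_nonZeroDivisors p) (h.trans (map_zero _).symm))
  have hnf : ¬ IsField Ap := fun h => hxp (by
    rw [IsLocalRing.isField_iff_maximalIdeal_eq] at h
    exact (Submodule.mem_bot Ap).1 (h ▸ hmax ▸ Ideal.mem_span_singleton_self _))
  haveI : IsDiscreteValuationRing Ap :=
    ((IsDiscreteValuationRing.TFAE Ap hnf).out 0 4).2
      (show (IsLocalRing.maximalIdeal Ap).IsPrincipal from ⟨⟨algebraMap A Ap x, hmax⟩⟩)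
  letI algK : Algebra Ap K := (IsLocalization.lift (M := p.primeCompl) (g := algebraMap A K)
    (fun y => isUnit_iff_ne_zero.2 (IsFractionRing.to_map_ne_zero_of_mem_nonZeroDivisors
      (Ideal.primeCompl_le_nonZeroDivisors p y.2)))).toAlgebra
  haveI : IsScalarTower A Ap K := IsScalarTower.of_algebraMap_eq fun a => (IsLocalization.lift_eq _ a).symm
  haveI : IsFractionRing Ap K := IsFractionRing.isFractionRing_of_isDomain_of_isLocalization p.primeCompl Ap K
  let κ := p.ResidueField
  let φ := Spec.map (CommRingCat.ofHom (algebraMap A Ap))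
  let η₁ := Spec.map (CommRingCat.ofHom (algebraMap Ap K))
  let c₁ := Spec.map (CommRingCat.ofHom (IsLocalRing.residue Ap))
  let π := Spec.map (CommRingCat.ofHom (Ideal.Quotient.mk p))
  let η₂ := Spec.map (CommRingCat.ofHom (algebraMap (A ⧸ p) κ))
  have h₁ : η₁ ≫ φ = Spec.map (CommRingCat.ofHom (algebraMap A K)) := by
    rw [← Spec.map_comp, ← CommRingCat.ofHom_comp, ← IsScalarTower.algebraMap_eq]
  have h₂ : η₂ ≫ π = c₁ ≫ φ := by
    rw [← Spec.map_comp, ← Spec.map_comp]
    refine congrArg Spec.map (CommRingCat.hom_ext (RingHom.ext fun a => ?_))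
    exact (IsScalarTower.algebraMap_apply A (A ⧸ p) κ a).symm
  have hrp : ∀ a ∈ p, r a = 0 := fun a ha => by
    rw [← RingHom.mem_ker, IsLocalRing.eq_maximalIdeal (RingHom.ker_isMaximal_of_surjective r hr)]
    exact (Ideal.span_singleton_le_iff_mem _).2 hx ha
  let r' : A ⧸ p →+* k := Ideal.Quotient.lift p r hrp
  have hr' : Function.Surjective r' := Ideal.Quotient.lift_surjective_of_surjective _ _ hr
  have h₃ : Spec.map (CommRingCat.ofHom r') ≫ π = Spec.map (CommRingCat.ofHom r) := by
    rw [← Spec.map_comp]; rfl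
  let G₁ := Red.bc φ G
  let G₂ := Red.bc π G
  haveI : Flat G₁.hom := inferInstanceAs (Flat (pullback.snd G.hom φ))
  haveI : LocallyOfFinitePresentation G₁.hom := inferInstanceAs (LocallyOfFinitePresentation (pullback.snd G.hom φ))
  haveI : QuasiCompact G₁.hom := inferInstanceAs (QuasiCompact (pullback.snd G.hom φ))
  haveI : Flat G₂.hom := inferInstanceAs (Flat (pullback.snd G.hom π))
  haveI : LocallyOfFinitePresentation G₂.hom := inferInstanceAs (LocallyOfFinitePresentation (pullback.snd G.hom π))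
  haveI : QuasiCompact G₂.hom := inferInstanceAs (QuasiCompact (pullback.snd G.hom π))
  let e₁ := SpreadSub19.bcComp φ η₁ h₁ G
  haveI := SpreadSub19.bcComp_isMonHom φ η₁ h₁ G
  haveI : IsMonHom e₁.hom := ‹_›
  haveI : IsIso e₁.inv.left := inferInstanceAs (IsIso ((Over.forget _).map e₁.inv))
  haveI : IsClosedImmersion (i ≫ e₁.inv).left :=
    inferInstanceAs (IsClosedImmersion (i.left ≫ e₁.inv.left))
  obtain ⟨H₁, gH₁, i₁, hi₁, hc₁, hd₁, hl₁, hn₁⟩ := spz_dvr K G₁ (IsLocalRing.residue Ap) IsLocalRing.residue_surjective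
    (i ≫ e₁.inv)
  let e₂ := SpreadSub19.bcComp φ c₁ h₂.symm G
  let e₃ := SpreadSub19.bcComp π η₂ rfl G
  haveI : IsMonHom e₂.hom := SpreadSub19.bcComp_isMonHom φ c₁ h₂.symm G
  haveI : IsMonHom e₃.hom := SpreadSub19.bcComp_isMonHom π η₂ rfl G
  let t := e₂.hom ≫ e₃.inv
  haveI : IsMonHom t := inferInstanceAs (IsMonHom (e₂.hom ≫ e₃.inv))
  haveI : IsIso t.left := inferInstanceAs (IsIso ((Over.forget _).map t))
  haveI := hi₁
  haveI : IsClosedImmersion (i₁ ≫ t).left := by
    haveI := hc₁
    exact inferInstanceAs (IsClosedImmersion (i₁.left ≫ t.left))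
  obtain ⟨H₂, gH₂, i₂, hi₂, hc₂, hd₂, hl₂, hn₂⟩ := ih (IsLocalRing.maximalIdeal (A ⧸ Ideal.span {x})).spanFinrank
    (by rw [← hn, ← hlt]; exact Nat.lt_succ_self _) (A ⧸ p) rfl κ G₂ r' hr' (i₁ ≫ t)
  refine Spz.comp ⟨H₂, gH₂, i₂, hi₂, hc₂, hd₂.trans hd₁, fun hs m w hw => ?_, fun hN => ?_⟩
    (SpreadSub19.bcComp π _ h₃ G) (SpreadSub19.bcComp_isMonHom π _ h₃ G)
  · haveI := hs
    exact hl₂ (inferInstanceAs (IsSeparated (pullback.snd G.hom π))) m w
      (hl₁ (inferInstanceAs (IsSeparated (pullback.snd G.hom φ))) m w hw)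
  · exact hn₂ (normal_comp_iso (hn₁ (normal_comp_iso hN e₁.inv)) t)

end Groth.Agent.SubSpec19
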