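import Groth.Agent.Lib.SubSpec19.Core
import Groth.Agent.Lib.SpreadSub19.Basic
import Groth.Agent.Lib.PlaceRat28.Basic

/-!
# Specialization of subgroups of geometric fibres
-/

set_option autoImplicit false
set_option linter.style.haveILetI false
set_option backward.isDefEq.respectTransparency false
set_option backward.isDefEq.respectTransparency.types false
universe u

open CategoryTheory CategoryTheory.Limits MonoidalCategory CartesianMonoidalCategory MonObj GrpObj AlgebraicGeometry

namespace Groth.Agent.SubSpec19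

/-- The residue field of a valuation ring of an algebraically closed field is algebraically closed. -/
theorem isAlgClosed_residueField {K : Type u} [Field K] [IsAlgClosed K] (V : ValuationSubring K) :
    IsAlgClosed (IsLocalRing.ResidueField V) := by
  refine IsAlgClosed.of_exists_root _ fun p hp hirr => ?_
  obtain ⟨q, hq, hdeg, hqm⟩ := Polynomial.lifts_and_degree_eq_and_monic
    (Polynomial.map_surjective _ IsLocalRing.residue_surjective p |> fun ⟨q, hq⟩ => ⟨q, hq⟩) hp
  have hne : (q.map (algebraMap V K)).degree ≠ 0 := by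
    rw [hqm.degree_map, hdeg]
    exact (Polynomial.degree_pos_of_irreducible hirr).ne'
  obtain ⟨x, hx⟩ := IsAlgClosed.exists_root _ hne
  have hint : IsIntegral V x := ⟨q, hqm, by rwa [← Polynomial.eval_map]⟩
  obtain ⟨y, rfl⟩ := IsIntegrallyClosed.isIntegral_iff.1 hint
  refine ⟨IsLocalRing.residue V y, ?_⟩
  rw [← hq, Polynomial.eval_map, Polynomial.eval₂_at_apply]
  rw [Polynomial.IsRoot, Polynomial.eval_map, Polynomial.eval₂_at_apply] at hx
  rw [(IsFractionRing.injective V K) (hx.trans (map_zero _).symm), map_zero]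

/-- Specialization of a subgroup along a morphism from the spectrum of a valuation ring. -/
theorem exists_special_over {S : Scheme.{u}} (G : Over S) [GrpObj G] [LocallyOfFinitePresentation G.hom]
    [QuasiCompact G.hom] {K : Type u} [Field K] [IsAlgClosed K] (V : ValuationSubring K)
    {k : Type u} [Field k] [IsAlgClosed k] (r : V →+* k) (hr : Function.Surjective r)
    (a : Spec (CommRingCat.of V) ⟶ S) {b : Spec (CommRingCat.of K) ⟶ S} {b' : Spec (CommRingCat.of k) ⟶ S}
    (hb : Spec.map (CommRingCat.ofHom (algebraMap V K)) ≫ a = b) (hb' : Spec.map (CommRingCat.ofHom r) ≫ a = b')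
    {H : Over (Spec (CommRingCat.of K))} [GrpObj H] (i : H ⟶ Red.bc b G) [IsMonHom i] [IsClosedImmersion i.left]
    [Smooth H.hom] [ConnectedSpace H.left] :
    ∃ (H' : Over (Spec (CommRingCat.of k))) (_ : GrpObj H') (i' : H' ⟶ Red.bc b' G),
      IsMonHom i' ∧ IsClosedImmersion i'.left ∧ Smooth H'.hom ∧ ConnectedSpace H'.left ∧
      topologicalKrullDim H.left ≤ topologicalKrullDim H'.left ∧
      ∀ (m : ℕ) (w : FreeGroup (Fin m)), Law H m w → Law H' m w := by
  haveI : LocallyOfFinitePresentation (Red.bc a G).hom :=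
    inferInstanceAs (LocallyOfFinitePresentation (pullback.snd G.hom a))
  haveI : QuasiCompact (Red.bc a G).hom := inferInstanceAs (QuasiCompact (pullback.snd G.hom a))
  let e := SpreadSub19.bcComp a (Spec.map (CommRingCat.ofHom (algebraMap V K))) hb G
  let e' := SpreadSub19.bcComp a (Spec.map (CommRingCat.ofHom r)) hb' G
  haveI : IsMonHom e.hom := SpreadSub19.bcComp_isMonHom _ _ hb G
  haveI : IsMonHom e.inv := inferInstance
  haveI : IsMonHom e'.hom := SpreadSub19.bcComp_isMonHom _ _ hb' G
  haveI : IsIso e.inv.left := inferInstanceAs (IsIso ((Over.forget _).map e.inv))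
  haveI : IsIso e'.hom.left := inferInstanceAs (IsIso ((Over.forget _).map e'.hom))
  haveI : IsClosedImmersion (i ≫ e.inv).left := inferInstanceAs (IsClosedImmersion (i.left ≫ e.inv.left))
  obtain ⟨H', hH', i', hi', hc', hs', hcn', hd, hlaw⟩ := exists_special (Red.bc a G) (i ≫ e.inv) r hr
  haveI := hi'
  haveI := hc'
  exact ⟨H', hH', i' ≫ e'.hom, inferInstance, inferInstanceAs (IsClosedImmersion (i'.left ≫ e'.hom.left)), hs', hcn',
    hd, hlaw⟩

/-- Subgroups of geometric fibres specialize, keeping their laws. -/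
theorem exists_of_specializes {S : Scheme.{u}} (G : Over S) [GrpObj G] [LocallyOfFinitePresentation G.hom]
    [QuasiCompact G.hom] {s s' : S} (h : s ⤳ s')
    {H : Over (Spec (CommRingCat.of (AlgebraicClosure (S.residueField s))))} [GrpObj H]
    (i : H ⟶ Red.geomFibre s G) [IsMonHom i] [IsClosedImmersion i.left] [Smooth H.hom] [ConnectedSpace H.left] :
    ∃ (H' : Over (Spec (CommRingCat.of (AlgebraicClosure (S.residueField s'))))) (_ : GrpObj H')
      (i' : H' ⟶ Red.geomFibre s' G),
      IsMonHom i' ∧ IsClosedImmersion i'.left ∧ Smooth H'.hom ∧ ConnectedSpace H'.left ∧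
      topologicalKrullDim H.left ≤ topologicalKrullDim H'.left ∧
      ∀ (m : ℕ) (w : FreeGroup (Fin m)), Law H m w → Law H' m w := by
  -- a valuation ring of the algebraic closure of κ(s) centred at s'
  let K := AlgebraicClosure (S.residueField s)
  let f : S.presheaf.stalk s' →+* K :=
    (algebraMap (S.residueField s) K).comp ((S.presheaf.stalkSpecializes h ≫ S.residue s).hom)
  obtain ⟨V, hV, hloc⟩ := IsLocalRing.exists_factor_valuationRing f
  let φ : S.presheaf.stalk s' →+* V := f.codRestrict V.toSubring hV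
  haveI : IsLocalHom φ := hloc
  let a : Spec (CommRingCat.of V) ⟶ S := Spec.map (CommRingCat.ofHom φ) ≫ S.fromSpecStalk s'
  let k₁ := IsLocalRing.ResidueField V
  haveI : IsAlgClosed k₁ := isAlgClosed_residueField V
  let θ : S.residueField s' →+* k₁ := IsLocalRing.ResidueField.map φ
  have hb : Spec.map (CommRingCat.ofHom (algebraMap V K)) ≫ a = Red.geomPt s := by
    show _ = Spec.map (CommRingCat.ofHom (algebraMap (S.residueField s) K)) ≫ Spec.map (S.residue s) ≫ S.fromSpecStalk s
    rw [← Scheme.SpecMap_stalkSpecializes_fromSpecStalk h, ← Category.assoc, ← Category.assoc, ← Category.assoc,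
      ← Spec.map_comp, ← Spec.map_comp, ← Spec.map_comp]
    rfl
  let b₁ : Spec (CommRingCat.of k₁) ⟶ S := Spec.map (CommRingCat.ofHom θ) ≫ S.fromSpecResidueField s'
  have hb₁ : Spec.map (CommRingCat.ofHom (IsLocalRing.residue V)) ≫ a = b₁ := by
    show _ = Spec.map (CommRingCat.ofHom θ) ≫ Spec.map (S.residue s') ≫ S.fromSpecStalk s'
    rw [← Category.assoc, ← Category.assoc, ← Spec.map_comp, ← Spec.map_comp]
    rfl
  obtain ⟨H₁, _, i₁, hi₁, hc₁, hs₁, hcn₁, hd₁, hlaw₁⟩ :=
    exists_special_over G V (IsLocalRing.residue V) IsLocalRing.residue_surjective a hb hb₁ i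
  haveI := hi₁
  haveI := hc₁
  haveI := hs₁
  haveI := hcn₁
  -- a place of k₁ over the algebraic closure of κ(s')
  let k := AlgebraicClosure (S.residueField s')
  letI : Algebra (S.residueField s') k₁ := θ.toAlgebra
  let ι₂ : k →ₐ[S.residueField s'] k₁ := IsAlgClosed.lift
  letI : Algebra k k₁ := ι₂.toRingHom.toAlgebra
  have hg : PlaceRat28.IsGraph (⊥ : Subalgebra k (k₁ × k)) := by
    intro c hc
    obtain ⟨d, hd⟩ := Algebra.mem_bot.1 hc
    have h0 : algebraMap k k₁ d = 0 := congrArg Prod.fst hd
    have hc' : algebraMap k k d = c := congrArg Prod.snd hd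
    rw [← hc', (algebraMap k k₁).injective (h0.trans (map_zero _).symm), map_zero]
  obtain ⟨V₂, res, hres, -, -⟩ := PlaceRat28.exists_valuationSubring (⊥ : Subalgebra k (k₁ × k)) hg
  choose hmem hval using hres
  let ι₃ : k →+* V₂ := (algebraMap k k₁).codRestrict V₂.toSubring hmem
  let a₂ : Spec (CommRingCat.of V₂) ⟶ S := Spec.map (CommRingCat.ofHom ι₃) ≫ Red.geomPt s'
  have hb₂ : Spec.map (CommRingCat.ofHom (algebraMap V₂ k₁)) ≫ a₂ = b₁ := by
    show _ ≫ _ ≫ Spec.map (CommRingCat.ofHom (algebraMap (S.residueField s') k)) ≫ _ = _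
    rw [← Category.assoc, ← Category.assoc, ← Spec.map_comp, ← Spec.map_comp]
    refine congrArg (fun q => Spec.map q ≫ S.fromSpecResidueField s') (CommRingCat.hom_ext ?_)
    exact ι₂.comp_algebraMap
  have hb₃ : Spec.map (CommRingCat.ofHom res) ≫ a₂ = Red.geomPt s' := by
    rw [← Category.assoc, ← Spec.map_comp,
      show CommRingCat.ofHom ι₃ ≫ CommRingCat.ofHom res = 𝟙 _ from CommRingCat.hom_ext (RingHom.ext hval),
      Spec.map_id, Category.id_comp]
  obtain ⟨H', hH', i', h1, h2, h3, h4, hd', hlaw'⟩ :=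
    exists_special_over G V₂ res (fun c => ⟨ι₃ c, hval c⟩) a₂ hb₂ hb₃ i₁
  exact ⟨H', hH', i', h1, h2, h3, h4, hd₁.trans hd', fun m w hw => hlaw' m w (hlaw₁ m w hw)⟩

end Groth.Agent.SubSpec19
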