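import Groth.Agent.Lib.SubSpec19.Regular
import Groth.Agent.Lib.SubSpec19.Stable
import Groth.Agent.Lib.AttrBorel21.BorelDisc
import Groth.Agent.Lib.TopDimLib.Basic

/-!
# Specialisation of subgroups containing the commutators
-/

set_option autoImplicit false
set_option linter.style.haveILetI false
set_option backward.isDefEq.respectTransparency false
set_option backward.isDefEq.respectTransparency.types false
universe u

open CategoryTheory CategoryTheory.Limits MonoidalCategory CartesianMonoidalCategory MonObj GrpObj AlgebraicGeometry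

namespace Groth.Agent.SubSpec19

/-- A property of geometric fibres stable under specialisation along valuation rings is stable under
specialisation of the base. -/
theorem of_specializes {S : Scheme.{u}} (P : ∀ (K : Type u) [Field K], (Spec (CommRingCat.of K) ⟶ S) → Prop)
    (hP : ∀ (K : Type u) [Field K] [IsAlgClosed K] (V : ValuationSubring K) (k : Type u) [Field k] [IsAlgClosed k]
      (r : V →+* k), Function.Surjective r → ∀ a : Spec (CommRingCat.of V) ⟶ S,
      P K (Spec.map (CommRingCat.ofHom (algebraMap V K)) ≫ a) → P k (Spec.map (CommRingCat.ofHom r) ≫ a))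
    {s s' : S} (h : s ⤳ s') (hs : P _ (Red.geomPt s)) : P _ (Red.geomPt s') := by
  let K := AlgebraicClosure (S.residueField s)
  let f : S.presheaf.stalk s' →+* K :=
    (algebraMap (S.residueField s) K).comp ((S.presheaf.stalkSpecializes h ≫ S.residue s).hom)
  obtain ⟨V, hV, hloc⟩ := IsLocalRing.exists_factor_valuationRing f
  let φ : S.presheaf.stalk s' →+* V := f.codRestrict V.toSubring hV
  haveI : IsLocalHom φ := hloc
  let a : Spec (CommRingCat.of V) ⟶ S := Spec.map (CommRingCat.ofHom φ) ≫ S.fromSpecStalk s'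
  let k₁ := IsLocalRing.ResidueField V
  haveI : IsAlgClosed k₁ := isAlgClosed_residueField V
  let θ : S.residueField s' →+* k₁ := IsLocalRing.ResidueField.map φ
  have hb : Spec.map (CommRingCat.ofHom (algebraMap V K)) ≫ a = Red.geomPt s := by
    show _ = Spec.map (CommRingCat.ofHom (algebraMap (S.residueField s) K)) ≫ Spec.map (S.residue s) ≫ S.fromSpecStalk s
    rw [← Scheme.SpecMap_stalkSpecializes_fromSpecStalk h, ← Category.assoc, ← Category.assoc, ← Category.assoc,
      ← Spec.map_comp, ← Spec.map_comp, ← Spec.map_comp]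
    rfl
  let b₁ : Spec (CommRingCat.of k₁) ⟶ S := Spec.map (CommRingCat.ofHom θ) ≫ S.fromSpecResidueField s'
  have hb₁ : Spec.map (CommRingCat.ofHom (IsLocalRing.residue V)) ≫ a = b₁ := by
    show _ = Spec.map (CommRingCat.ofHom θ) ≫ Spec.map (S.residue s') ≫ S.fromSpecStalk s'
    rw [← Category.assoc, ← Category.assoc, ← Spec.map_comp, ← Spec.map_comp]
    rfl
  have h₁ : P k₁ b₁ := hb₁ ▸ hP K V k₁ (IsLocalRing.residue V) IsLocalRing.residue_surjective a (hb.symm ▸ hs)
  let k := AlgebraicClosure (S.residueField s')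
  letI : Algebra (S.residueField s') k₁ := θ.toAlgebra
  let ι₂ : k →ₐ[S.residueField s'] k₁ := IsAlgClosed.lift
  letI : Algebra k k₁ := ι₂.toRingHom.toAlgebra
  have hg : PlaceRat28.IsGraph (⊥ : Subalgebra k (k₁ × k)) := by
    intro c hc
    obtain ⟨d, hd⟩ := Algebra.mem_bot.1 hc
    have h0 : algebraMap k k₁ d = 0 := congrArg Prod.fst hd
    have hc' : algebraMap k k d = c := congrArg Prod.snd hd
    rw [← hc', (algebraMap k k₁).injective (h0.trans (map_zero _).symm), map_zero]
  obtain ⟨V₂, res, hres, -, -⟩ := PlaceRat28.exists_valuationSubring (⊥ : Subalgebra k (k₁ × k)) hg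
  choose hmem hval using hres
  let ι₃ : k →+* V₂ := (algebraMap k k₁).codRestrict V₂.toSubring hmem
  let a₂ : Spec (CommRingCat.of V₂) ⟶ S := Spec.map (CommRingCat.ofHom ι₃) ≫ Red.geomPt s'
  have hb₂ : Spec.map (CommRingCat.ofHom (algebraMap V₂ k₁)) ≫ a₂ = b₁ := by
    show _ ≫ _ ≫ Spec.map (CommRingCat.ofHom (algebraMap (S.residueField s') k)) ≫ _ = _
    rw [← Category.assoc, ← Category.assoc, ← Spec.map_comp, ← Spec.map_comp]
    refine congrArg (fun q => Spec.map q ≫ S.fromSpecResidueField s') (CommRingCat.hom_ext ?_)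
    exact ι₂.comp_algebraMap
  have hb₃ : Spec.map (CommRingCat.ofHom res) ≫ a₂ = Red.geomPt s' := by
    rw [← Category.assoc, ← Spec.map_comp,
      show CommRingCat.ofHom ι₃ ≫ CommRingCat.ofHom res = 𝟙 _ from CommRingCat.hom_ext (RingHom.ext hval),
      Spec.map_id, Category.id_comp]
  exact hb₃ ▸ hP k₁ V₂ k res (fun c => ⟨ι₃ c, hval c⟩) a₂ (hb₂.symm ▸ h₁)

/-- The commutator condition is stable under base change. -/
theorem comm_bc {S S' : Scheme.{u}} (f : S' ⟶ S) {G N : Over S} [GrpObj G] [GrpObj N] {i : N ⟶ G}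
    (hc : HasComm i) : HasComm ((Over.pullback f).map i) := by
  intro T g h
  obtain ⟨m, hm⟩ := hc _ ((bcPts f T).symm g) ((bcPts f T).symm h)
  refine ⟨bcPts f T m, (bcPts f T).symm.injective ?_⟩
  have hnat : (bcPts f T).symm (bcPts f T m ≫ (Over.pullback f).map i) = m ≫ i := by
    ext1
    rw [Over.comp_left, bcPts_symm_left, Over.comp_left, Category.assoc]
    refine (congrArg ((bcPts f T m).left ≫ ·) (pullback.lift_fst _ _ _)).trans ?_
    show (bcPts f T m).left ≫ pullback.fst N.hom f ≫ i.left = _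
    rw [← Category.assoc]
    congr 1
    rw [← bcPts_symm_left, MulEquiv.symm_apply_apply]
  rw [map_mul, map_mul, map_mul, map_inv, map_inv, hnat, hm]

/-- The commutator condition is stable under isomorphisms of groups. -/
theorem comm_comp_iso {S : Scheme.{u}} {G G' N : Over S} [GrpObj G] [GrpObj G'] {i : N ⟶ G}
    (hc : HasComm i) (e : G ⟶ G') [IsMonHom e] [IsIso e] : HasComm (i ≫ e) := by
  intro T g h
  obtain ⟨m, hm⟩ := hc T (g ≫ inv e) (h ≫ inv e)
  refine ⟨m, ?_⟩
  rw [← Category.assoc m i e, ← hm, MonObj.mul_comp, MonObj.mul_comp, MonObj.mul_comp, GrpObj.inv_comp, GrpObj.inv_comp]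
  simp

/-- The dimensions of the fibres of a flat group over a valuation ring agree. -/
theorem dim_fibres {S : Scheme.{u}} (G : Over S) [GrpObj G] [Flat G.hom] [LocallyOfFiniteType G.hom]
    {K : Type u} [Field K] (V : ValuationSubring K) {k : Type u} [Field k] (r : V →+* k) (hr : Function.Surjective r)
    (a : Spec (CommRingCat.of V) ⟶ S) :
    topologicalKrullDim (Red.bc (Spec.map (CommRingCat.ofHom r) ≫ a) G).left =
      topologicalKrullDim (Red.bc (Spec.map (CommRingCat.ofHom (algebraMap V K)) ≫ a) G).left := by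
  haveI : Flat (Red.bc a G).hom := inferInstanceAs (Flat (pullback.snd G.hom a))
  haveI : LocallyOfFiniteType (Red.bc a G).hom := inferInstanceAs (LocallyOfFiniteType (pullback.snd G.hom a))
  let e₁ := (SpreadSub19.bcComp a (Spec.map (CommRingCat.ofHom r)) rfl G)
  let e₂ := (SpreadSub19.bcComp a (Spec.map (CommRingCat.ofHom (algebraMap V K))) rfl G)
  haveI : IsIso e₁.hom.left := inferInstanceAs (IsIso ((Over.forget _).map e₁.hom))
  haveI : IsIso e₂.hom.left := inferInstanceAs (IsIso ((Over.forget _).map e₂.hom))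
  rw [← (Scheme.homeoOfIso (asIso e₁.hom.left)).isHomeomorph.topologicalKrullDim_eq _,
    ← (Scheme.homeoOfIso (asIso e₂.hom.left)).isHomeomorph.topologicalKrullDim_eq _]
  exact dim_special (K := K) (Hb := Red.bc a G) r hr

section Step

variable {S : Scheme.{u}} (G : Over S) [GrpObj G] [LocallyOfFiniteType G.hom] [QuasiCompact G.hom]
  {K : Type u} [Field K] (V : ValuationSubring K) {k : Type u} [Field k] (r : V →+* k) (hr : Function.Surjective r)
  (a : Spec (CommRingCat.of V) ⟶ S)

include hr in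
/-- A normal subgroup containing the commutators specialises. -/
theorem derived_special [Flat G.hom] {N : Over (Spec (CommRingCat.of K))} [GrpObj N]
    (i : N ⟶ Red.bc (Spec.map (CommRingCat.ofHom (algebraMap V K)) ≫ a) G) [IsMonHom i] [IsClosedImmersion i.left]
    (hn : AlgGrp.IsNormalHom i) (hc : HasComm i) :
    ∃ (N' : Over (Spec (CommRingCat.of k))) (_ : GrpObj N') (i' : N' ⟶ Red.bc (Spec.map (CommRingCat.ofHom r) ≫ a) G),
      IsMonHom i' ∧ IsClosedImmersion i'.left ∧ AlgGrp.IsNormalHom i' ∧ HasComm i' ∧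
      topologicalKrullDim N'.left = topologicalKrullDim N.left := by
  let et := Spec.map (CommRingCat.ofHom (algebraMap V K))
  let c := Spec.map (CommRingCat.ofHom r)
  let G₁ := Red.bc a G
  haveI : Flat G₁.hom := inferInstanceAs (Flat (pullback.snd G.hom a))
  haveI : LocallyOfFiniteType G₁.hom := inferInstanceAs (LocallyOfFiniteType (pullback.snd G.hom a))
  haveI : QuasiCompact G₁.hom := inferInstanceAs (QuasiCompact (pullback.snd G.hom a))
  let e₁ := SpreadSub19.bcComp a et rfl G
  let e₂ := SpreadSub19.bcComp a c rfl G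
  haveI : IsMonHom e₁.hom := SpreadSub19.bcComp_isMonHom a et rfl G
  haveI : IsMonHom e₂.hom := SpreadSub19.bcComp_isMonHom a c rfl G
  haveI : IsIso e₁.inv.left := inferInstanceAs (IsIso ((Over.forget _).map e₁.inv))
  haveI : IsIso e₂.hom.left := inferInstanceAs (IsIso ((Over.forget _).map e₂.hom))
  haveI : IsClosedImmersion (i ≫ e₁.inv).left := inferInstanceAs (IsClosedImmersion (i.left ≫ e₁.inv.left))
  obtain ⟨Nb, gN, incl, h1, h2, h3, ⟨e, he, -⟩, -, hnrm, hcm⟩ := exists_closure G₁ (i ≫ e₁.inv)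
  haveI := h1; haveI := h2; haveI := h3; haveI := he
  haveI : LocallyOfFiniteType Nb.hom := Over.w incl ▸ inferInstanceAs (LocallyOfFiniteType (incl.left ≫ G₁.hom))
  haveI := FrobSub19.isClosedImmersion_map c incl h2
  refine ⟨Red.bc c Nb, inferInstance, (Over.pullback c).map incl ≫ e₂.hom, inferInstance,
    inferInstanceAs (IsClosedImmersion (((Over.pullback c).map incl).left ≫ e₂.hom.left)),
    normal_comp_iso (normal_bc c (hnrm ‹_› (normal_comp_iso hn e₁.inv))) e₂.hom,
    comm_comp_iso (comm_bc c (hcm ‹_› (comm_comp_iso hc e₁.inv))) e₂.hom, ?_⟩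
  haveI : IsIso e.left := inferInstanceAs (IsIso ((Over.forget _).map e))
  rw [dim_special (K := K) r hr]
  exact ((Scheme.homeoOfIso (asIso e.left)).isHomeomorph.topologicalKrullDim_eq _).symm

include hr in
/-- A normal subgroup of the neutral component containing its commutators specialises. -/
theorem neutral_derived_special [IsAlgClosed K] [IsAlgClosed k] [Smooth G.hom]
    {C : Over (Spec (CommRingCat.of K))} [GrpObj C]
    (cK : C ⟶ Red.bc (Spec.map (CommRingCat.ofHom (algebraMap V K)) ≫ a) G) [IsMonHom cK] [IsOpenImmersion cK.left]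
    [IsClosedImmersion cK.left]
    {N : Over (Spec (CommRingCat.of K))} [GrpObj N] (i : N ⟶ C) [IsMonHom i] [IsClosedImmersion i.left]
    (hn : AlgGrp.IsNormalHom i) (hc : HasComm i) :
    ∃ (C' : Over (Spec (CommRingCat.of k))) (_ : GrpObj C') (c' : C' ⟶ Red.bc (Spec.map (CommRingCat.ofHom r) ≫ a) G)
      (N' : Over (Spec (CommRingCat.of k))) (_ : GrpObj N') (i' : N' ⟶ C'),
      IsMonHom c' ∧ IsOpenImmersion c'.left ∧ IsClosedImmersion c'.left ∧ ConnectedSpace C'.left ∧
      IsMonHom i' ∧ IsClosedImmersion i'.left ∧ AlgGrp.IsNormalHom i' ∧ HasComm i' ∧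
      topologicalKrullDim N'.left ≤ topologicalKrullDim N.left := by
  let et := Spec.map (CommRingCat.ofHom (algebraMap V K))
  let c := Spec.map (CommRingCat.ofHom r)
  let G₁ := Red.bc a G
  haveI : Flat G₁.hom := inferInstanceAs (Flat (pullback.snd G.hom a))
  haveI : LocallyOfFiniteType G₁.hom := inferInstanceAs (LocallyOfFiniteType (pullback.snd G.hom a))
  haveI : QuasiCompact G₁.hom := inferInstanceAs (QuasiCompact (pullback.snd G.hom a))
  let GK := Red.bc (et ≫ a) G
  let G' := Red.bc (c ≫ a) G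
  haveI : LocallyOfFiniteType GK.hom := inferInstanceAs (LocallyOfFiniteType (pullback.snd G.hom (et ≫ a)))
  haveI : Smooth G'.hom := inferInstanceAs (Smooth (pullback.snd G.hom (c ≫ a)))
  haveI : QuasiCompact G'.hom := inferInstanceAs (QuasiCompact (pullback.snd G.hom (c ≫ a)))
  let e₁ := SpreadSub19.bcComp a et rfl G
  let e₂ := SpreadSub19.bcComp a c rfl G
  haveI : IsMonHom e₁.hom := SpreadSub19.bcComp_isMonHom a et rfl G
  haveI : IsMonHom e₂.hom := SpreadSub19.bcComp_isMonHom a c rfl G
  haveI : IsIso e₁.inv.left := inferInstanceAs (IsIso ((Over.forget _).map e₁.inv))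
  haveI : IsIso e₂.hom.left := inferInstanceAs (IsIso ((Over.forget _).map e₂.hom))
  haveI : IsClosedImmersion (cK ≫ e₁.inv).left := inferInstanceAs (IsClosedImmersion (cK.left ≫ e₁.inv.left))
  -- closure of the neutral component
  obtain ⟨Cb, gC, inclC, hC1, hC2, hC3, ⟨e, he, he'⟩, -, -, -⟩ := exists_closure G₁ (cK ≫ e₁.inv)
  haveI := hC1; haveI := hC2; haveI := hC3; haveI := he
  haveI : LocallyOfFiniteType Cb.hom := Over.w inclC ▸ inferInstanceAs (LocallyOfFiniteType (inclC.left ≫ G₁.hom))
  haveI : QuasiCompact Cb.hom := Over.w inclC ▸ inferInstanceAs (QuasiCompact (inclC.left ≫ G₁.hom))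
  haveI : IsIso e.left := inferInstanceAs (IsIso ((Over.forget _).map e))
  haveI := FrobSub19.isClosedImmersion_map et inclC hC2
  haveI : Mono ((Over.pullback et).map inclC) := Over.mono_of_mono_left _
  haveI : IsMonHom e := BorelFix21.isMonHom_of_comp ((Over.pullback et).map inclC) e (he'.symm ▸ inferInstance)
  haveI : IsClosedImmersion (i ≫ e).left := inferInstanceAs (IsClosedImmersion (i.left ≫ e.left))
  -- closure of the subgroup
  obtain ⟨Nb, gN, incl, h1, h2, h3, ⟨eN, heN, -⟩, -, hnrm, hcm⟩ := exists_closure Cb (i ≫ e)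
  haveI := h1; haveI := h2; haveI := h3; haveI := heN
  haveI : LocallyOfFiniteType Nb.hom := Over.w incl ▸ inferInstanceAs (LocallyOfFiniteType (incl.left ≫ Cb.hom))
  let D := Red.bc c Cb
  let N₁ := Red.bc c Nb
  haveI : LocallyOfFiniteType D.hom := inferInstanceAs (LocallyOfFiniteType (pullback.snd Cb.hom c))
  haveI := FrobSub19.isClosedImmersion_map c inclC hC2
  haveI := FrobSub19.isClosedImmersion_map c incl h2
  let d : D ⟶ G' := (Over.pullback c).map inclC ≫ e₂.hom
  haveI : IsMonHom d := inferInstanceAs (IsMonHom ((Over.pullback c).map inclC ≫ e₂.hom))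
  haveI : IsClosedImmersion d.left :=
    inferInstanceAs (IsClosedImmersion (((Over.pullback c).map inclC).left ≫ e₂.hom.left))
  haveI : Mono d := Over.mono_of_mono_left _
  let n₁ : N₁ ⟶ D := (Over.pullback c).map incl
  have hn₁ : AlgGrp.IsNormalHom n₁ := normal_bc c (hnrm ‹_› (normal_comp_iso hn e))
  have hc₁ : HasComm n₁ := comm_bc c (hcm ‹_› (comm_comp_iso hc e))
  -- dimensions
  have hdimD : topologicalKrullDim D.left = topologicalKrullDim G'.left := by
    rw [show topologicalKrullDim G'.left = topologicalKrullDim GK.left from dim_fibres G V r hr a,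
      dim_special (K := K) r hr, ← (Scheme.homeoOfIso (asIso e.left)).isHomeomorph.topologicalKrullDim_eq _,
      ← GrpCM20.dim_opens GK cK.left.opensRange ⟨_, η[C].left (IsLocalRing.closedPoint K), rfl⟩]
    exact cK.left.isOpenEmbedding.isEmbedding.toHomeomorph.isHomeomorph.topologicalKrullDim_eq _
  -- the neutral component
  obtain ⟨C', gC', j, hj1, hj2, hj3, hjs, hjq, hjc⟩ := AttrBorel21.exists_component_closed G'
  haveI := hj1; haveI := hj2; haveI := hj3; haveI := hjs; haveI := hjq; haveI := hjc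
  haveI : Mono j := Over.mono_of_mono_left _
  haveI : IsReduced C'.left := AbRigid.isReduced_of_smooth_over_field C'.hom
  haveI : IrreducibleSpace C'.left := GrpComp19.irreducibleSpace C'
  let Y : Set C'.left := j.left ⁻¹' Set.range d.left
  have hY : Y = Set.univ := by
    by_contra hY
    obtain ⟨D₀, gD₀, o, ho1, ho2, hoc⟩ := BorelFix21.exists_identity_component D
    haveI := ho1; haveI := ho2; haveI := hoc
    let pt : Spec (CommRingCat.of k) := IsLocalRing.closedPoint k
    have hsub : Set.range (o ≫ d).left ⊆ Set.range j.left := by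
      refine (isConnected_range (o ≫ d).left.continuous).isPreconnected.subset_isClopen
        ⟨j.left.isClosedEmbedding.isClosed_range, j.left.isOpenEmbedding.isOpen_range⟩ ?_
      refine ⟨η[G'].left pt, ⟨η[D₀].left pt, ?_⟩, ⟨η[C'].left pt, ?_⟩⟩
      · rw [← Scheme.Hom.comp_apply, ← Over.comp_left, ← Category.assoc, IsMonHom.one_hom, IsMonHom.one_hom]
      · rw [← Scheme.Hom.comp_apply, ← Over.comp_left, IsMonHom.one_hom]
    let l₀ := IsOpenImmersion.lift j.left (o ≫ d).left hsub
    have hl₀ : l₀ ≫ j.left = (o ≫ d).left := IsOpenImmersion.lift_fac _ _ _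
    have hmem : ∀ x, l₀ x ∈ Y := fun x => ⟨o.left x, by
      rw [← Scheme.Hom.comp_apply, ← Over.comp_left, ← hl₀, Scheme.Hom.comp_apply]⟩
    have hind : Topology.IsInducing (Set.codRestrict l₀ Y hmem) := by
      refine Topology.IsInducing.codRestrict ?_ hmem
      refine Topology.IsInducing.of_comp l₀.continuous j.left.continuous ?_
      have h : (j.left ∘ l₀ : D₀.left → G'.left) = d.left ∘ o.left := by
        funext x
        show j.left (l₀ x) = d.left (o.left x)
        rw [← Scheme.Hom.comp_apply, hl₀, Over.comp_left, Scheme.Hom.comp_apply]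
      rw [h]
      exact d.left.isEmbedding.isInducing.comp o.left.isEmbedding.isInducing
    have hfin : topologicalKrullDim C'.left ≠ ⊤ := fun ht => by
      haveI : Nonempty C'.left := ⟨η[C'].left pt⟩
      obtain ⟨x, hx, -⟩ := VarDim.exists_dim_eq (k := k) C'.hom
      rw [ht] at hx
      exact absurd (WithBot.coe_inj.1 hx) (ENat.coe_ne_top _).symm
    refine absurd (hind.topologicalKrullDim_le) (not_le.2 ?_)
    refine lt_of_lt_of_le (TopDimLib.dim_lt_of_closed_ssubset hfin Y
      (d.left.isClosedEmbedding.isClosed_range.preimage j.left.continuous) hY) ?_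
    refine j.left.isEmbedding.isInducing.topologicalKrullDim_le.trans ?_
    rw [← hdimD, ← GrpCM20.dim_opens D o.left.opensRange ⟨_, η[D₀].left pt, rfl⟩]
    exact (o.left.isOpenEmbedding.isEmbedding.toHomeomorph.isHomeomorph.topologicalKrullDim_eq _).ge
  obtain ⟨l', hl'⟩ := RedSepLib.exists_lift_of_range_subset j.left d.left (by
    rintro _ ⟨x, rfl⟩
    exact (Set.eq_univ_iff_forall.1 hY x))
  let l : C' ⟶ D := Over.homMk l' (by rw [← Over.w d, reassoc_of% hl']; exact Over.w j)
  have hl : l ≫ d = j := Over.OverMorphism.ext hl'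
  haveI : IsMonHom l := BorelFix21.isMonHom_of_comp d l (hl.symm ▸ hj1)
  haveI : IsClosedImmersion l.left := by
    haveI : IsClosedImmersion (l.left ≫ d.left) := by rw [← Over.comp_left, hl]; exact hj3
    exact IsClosedImmersion.of_comp l.left d.left
  -- intersection
  let N' : Over (Spec (CommRingCat.of k)) := Over.mk (pullback.fst l.left n₁.left ≫ C'.hom)
  let i' : N' ⟶ C' := Over.homMk (pullback.fst l.left n₁.left) rfl
  let p : N' ⟶ N₁ := Over.homMk (pullback.snd l.left n₁.left) (by
    show _ = pullback.fst l.left n₁.left ≫ C'.hom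
    rw [← Over.w l, pullback.condition_assoc, Over.w n₁])
  have hp : i' ≫ l = p ≫ n₁ := Over.OverMorphism.ext pullback.condition
  haveI : IsClosedImmersion i'.left := inferInstanceAs (IsClosedImmersion (pullback.fst l.left n₁.left))
  haveI : Mono i' := Over.mono_of_mono_left _
  have hfac : ∀ {T : Over (Spec (CommRingCat.of k))} (x : T ⟶ C'), (∃ q, q ≫ n₁ = x ≫ l) → ∃ z, z ≫ i' = x := by
    intro T x ⟨q, hq⟩
    exact ⟨Over.homMk (pullback.lift x.left q.left (by rw [← Over.comp_left, ← Over.comp_left, hq]))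
      (by show _ ≫ pullback.fst _ _ ≫ _ = _; rw [pullback.lift_fst_assoc]; exact Over.w x),
      Over.OverMorphism.ext (pullback.lift_fst _ _ _)⟩
  obtain ⟨m', hm'⟩ := hfac ((fst N' N' ≫ i') * (snd N' N' ≫ i')) ⟨(fst N' N' ≫ p) * (snd N' N' ≫ p), by
    rw [MonObj.mul_comp, MonObj.mul_comp, Category.assoc, Category.assoc, Category.assoc, Category.assoc, hp]⟩
  obtain ⟨u', hu'⟩ := hfac (1 : 𝟙_ _ ⟶ C') ⟨1, by rw [MonObj.one_comp, MonObj.one_comp]⟩
  obtain ⟨v', hv'⟩ := hfac i'⁻¹ ⟨p⁻¹, by rw [GrpObj.inv_comp, GrpObj.inv_comp, hp]⟩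
  let gN' : GrpObj N' := SubGrp13.grpObjOfMono i' hm' hu' hv'
  refine ⟨C', gC', j, N', gN', i', hj1, hj2, hj3, hjc, SubGrp13.isMonHom_grpObjOfMono i' hm' hu' hv', inferInstance,
    ?_, ?_, ?_⟩
  · intro T g n
    obtain ⟨q, hq⟩ := hn₁ T (g ≫ l) (n ≫ p)
    obtain ⟨z, hz⟩ := hfac (g * (n ≫ i') * g⁻¹) ⟨q, by
      rw [MonObj.mul_comp, MonObj.mul_comp, GrpObj.inv_comp, ← hq, Category.assoc, Category.assoc, hp]⟩
    exact ⟨z, hz.symm⟩
  · intro T g h
    obtain ⟨q, hq⟩ := hc₁ T (g ≫ l) (h ≫ l)
    obtain ⟨z, hz⟩ := hfac (g * h * g⁻¹ * h⁻¹) ⟨q, by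
      rw [MonObj.mul_comp, MonObj.mul_comp, MonObj.mul_comp, GrpObj.inv_comp, GrpObj.inv_comp, ← hq]⟩
    exact ⟨z, hz.symm⟩
  · haveI : IsClosedImmersion p.left := inferInstanceAs (IsClosedImmersion (pullback.snd l.left n₁.left))
    refine p.left.isEmbedding.isInducing.topologicalKrullDim_le.trans (le_of_eq ?_)
    haveI : IsIso eN.left := inferInstanceAs (IsIso ((Over.forget _).map eN))
    rw [dim_special (K := K) r hr]
    exact ((Scheme.homeoOfIso (asIso eN.left)).isHomeomorph.topologicalKrullDim_eq _).symm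

end Step

end Groth.Agent.SubSpec19
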