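import Groth.Agent.Lib.SubSpec19.Pieces
import Groth.Agent.Lib.AbRigid.GrpTop
import Groth.Agent.Lib.AbRigid.Maximal
import Groth.Agent.Lib.AbRigid.SmoothGI
import Groth.Agent.Lib.GrpSmooth19.Basic
import Groth.Agent.Lib.GrpComp19.Basic
import Groth.Agent.Lib.GrpGen20.CommBound
import Groth.Agent.Lib.PerfProd19.Basic
import Groth.Agent.Lib.AttrBorel21.BorelDisc
import Groth.Agent.S7624

/-!
# Specialization of subgroups over a valuation ring

A connected smooth subgroup of the generic fibre of a group scheme over a valuation ring specializes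
to a connected smooth subgroup of the special fibre of the same dimension satisfying the same group laws.
No separatedness is needed: laws are transported along the open locus where they hold.
-/

set_option autoImplicit false
set_option linter.style.haveILetI false
set_option backward.isDefEq.respectTransparency false
set_option backward.isDefEq.respectTransparency.types false
universe u

open CategoryTheory CategoryTheory.Limits MonoidalCategory CartesianMonoidalCategory MonObj GrpObj AlgebraicGeometry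

namespace Groth.Agent.SubSpec19

/-- The group word `w` is a law of `G`. -/
def Law {S : Scheme.{u}} (G : Over S) [GrpObj G] (m : ℕ) (w : FreeGroup (Fin m)) : Prop :=
  ∀ (T : Over S) (a : Fin m → (T ⟶ G)), FreeGroup.lift a w = 1

theorem hom_lift {A B : Type*} [Group A] [Group B] (φ : A →* B) {m : ℕ} (a : Fin m → A) (w : FreeGroup (Fin m)) :
    φ (FreeGroup.lift a w) = FreeGroup.lift (fun j => φ (a j)) w := by
  rw [← MonoidHom.comp_apply]
  congr 1
  exact FreeGroup.ext_hom _ _ (fun j => by simp)

theorem lift_one {A : Type*} [Group A] {m : ℕ} (w : FreeGroup (Fin m)) :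
    FreeGroup.lift (fun _ : Fin m => (1 : A)) w = 1 := by
  have h : FreeGroup.lift (fun _ : Fin m => (1 : A)) = 1 := FreeGroup.ext_hom _ _ (fun j => by simp)
  rw [h, MonoidHom.one_apply]

theorem comp_lift {S : Scheme.{u}} {G T T' : Over S} [GrpObj G] (t : T' ⟶ T) {m : ℕ} (a : Fin m → (T ⟶ G))
    (w : FreeGroup (Fin m)) : t ≫ FreeGroup.lift a w = FreeGroup.lift (fun j => t ≫ a j) w :=
  hom_lift (GrpLaw19.precomp G t) a w

theorem lift_comp {S : Scheme.{u}} {G H T : Over S} [GrpObj G] [GrpObj H] (i : H ⟶ G) [IsMonHom i] {m : ℕ}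
    (a : Fin m → (T ⟶ H)) (w : FreeGroup (Fin m)) :
    FreeGroup.lift a w ≫ i = FreeGroup.lift (fun j => a j ≫ i) w :=
  hom_lift (IsMonHom.monoidHom i T) a w

theorem irreducibleSpace_of_range {X Y : Type*} [TopologicalSpace X] [TopologicalSpace Y] {e : X → Y}
    (he : Topology.IsEmbedding e) (h : IsIrreducible (Set.range e)) : IrreducibleSpace X := by
  haveI : IrreducibleSpace ↥(Set.range e) :=
    { toPreirreducibleSpace := isPreirreducible_iff_preirreducibleSpace.1 h.2
      toNonempty := h.1.to_subtype }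
  rw [irreducibleSpace_def]
  have h2 := (IrreducibleSpace.isIrreducible_univ ↥(Set.range e)).image he.toHomeomorph.symm
    he.toHomeomorph.symm.continuous.continuousOn
  rw [Set.image_univ, he.toHomeomorph.symm.surjective.range_eq] at h2
  exact h2

theorem dim_eq_of_range_eq {X Y Z : Type*} [TopologicalSpace X] [TopologicalSpace Y] [TopologicalSpace Z]
    {e : X → Z} {e' : Y → Z} (he : Topology.IsEmbedding e) (he' : Topology.IsEmbedding e')
    (h : Set.range e = Set.range e') : topologicalKrullDim X = topologicalKrullDim Y :=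
  IsHomeomorph.topologicalKrullDim_eq _
    ((he.toHomeomorph.trans ((Homeomorph.setCongr h).trans he'.toHomeomorph.symm))).isHomeomorph

variable {V : Type u} [CommRing V] [IsDomain V] [ValuationRing V]
  {K : Type u} [Field K] [IsAlgClosed K] [Algebra V K] [IsFractionRing V K]


/-- The generic point of the valuation ring. -/
noncomputable def p0 : Spec (CommRingCat.of V) := (Spec.map (CommRingCat.ofHom (algebraMap V K))) (IsLocalRing.closedPoint K)

theorem p0_eq : (p0 (V := V) (K := K) : PrimeSpectrum V) = ⟨⊥, Ideal.bot_prime⟩ := by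
  refine PrimeSpectrum.ext ?_
  show Ideal.comap (algebraMap V K) (IsLocalRing.closedPoint K).asIdeal = ⊥
  rw [show (IsLocalRing.closedPoint K).asIdeal = ⊥ from IsLocalRing.maximalIdeal_eq_bot,
    ← RingHom.ker_eq_comap_bot]
  exact (RingHom.injective_iff_ker_eq_bot _).1 (IsFractionRing.injective V K)

theorem p0_specializes (v : Spec (CommRingCat.of V)) : p0 (V := V) (K := K) ⤳ v := by
  rw [p0_eq]
  exact (PrimeSpectrum.le_iff_specializes (⟨⊥, Ideal.bot_prime⟩ : PrimeSpectrum V) v).1 bot_le

theorem range_gen : Set.range (Spec.map (CommRingCat.ofHom (algebraMap V K))) = {p0 (V := V) (K := K)} := by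
  refine Set.Subset.antisymm ?_ (Set.singleton_subset_iff.2 ⟨_, rfl⟩)
  rintro _ ⟨z, rfl⟩
  rw [Subsingleton.elim (α := PrimeSpectrum K) z (IsLocalRing.closedPoint K)]
  rfl

theorem exists_factor_gen {L : Type u} [Field L] (q : Spec (CommRingCat.of L) ⟶ Spec (CommRingCat.of V))
    (hq : q (IsLocalRing.closedPoint L) = p0 (V := V) (K := K)) :
    ∃ ψ : Spec (CommRingCat.of L) ⟶ Spec (CommRingCat.of K), ψ ≫ (Spec.map (CommRingCat.ofHom (algebraMap V K))) = q := by
  obtain ⟨φ, rfl⟩ := Spec.map_surjective q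
  have hinj : Function.Injective φ.hom := by
    rw [RingHom.injective_iff_ker_eq_bot, RingHom.ker_eq_comap_bot,
      ← show (IsLocalRing.closedPoint L).asIdeal = ⊥ from IsLocalRing.maximalIdeal_eq_bot]
    exact congrArg PrimeSpectrum.asIdeal (hq.trans p0_eq)
  refine ⟨Spec.map (CommRingCat.ofHom (IsFractionRing.lift (K := K) hinj)), ?_⟩
  rw [← Spec.map_comp]
  congr 1
  ext v
  exact IsFractionRing.lift_algebraMap hinj v

variable (G : Over (Spec (CommRingCat.of V))) [GrpObj G]
  {H : Over (Spec (CommRingCat.of K))} (i : H ⟶ Red.bc (Spec.map (CommRingCat.ofHom (algebraMap V K))) G)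

/-- The generic points of the subgroup. -/
noncomputable def genSet : Set G.left := (pullback.fst G.hom (Spec.map (CommRingCat.ofHom (algebraMap V K)))) '' Set.range i.left

variable [IsClosedImmersion i.left]

theorem closure_inter : closure (genSet G i) ∩ G.hom ⁻¹' {p0 (V := V) (K := K)} = genSet G i := by
  haveI : IsPreimmersion (Spec.map (CommRingCat.ofHom (algebraMap V K))) := IsPreimmersion.of_isLocalization (nonZeroDivisors V)
  refine Set.Subset.antisymm ?_ fun x hx => ⟨subset_closure hx, ?_⟩
  · rintro x ⟨hx, hx0⟩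
    have : x ∈ Set.range (pullback.fst G.hom (Spec.map (CommRingCat.ofHom (algebraMap V K)))) := by
      rw [Scheme.Pullback.range_fst, range_gen]; exact hx0
    obtain ⟨y, rfl⟩ := this
    refine ⟨y, ?_, rfl⟩
    rw [← i.left.isClosedEmbedding.isClosed_range.closure_eq,
      (pullback.fst G.hom (Spec.map (CommRingCat.ofHom (algebraMap V K)))).isEmbedding.isInducing.closure_eq_preimage_closure_image]
    exact hx
  · obtain ⟨y, -, rfl⟩ := hx
    rw [Set.mem_preimage, ← Scheme.Hom.comp_apply, pullback.condition, Scheme.Hom.comp_apply, ← range_gen]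
    exact ⟨_, rfl⟩

variable [GrpObj H] [IsMonHom i] [LocallyOfFinitePresentation G.hom] [QuasiCompact G.hom]

/-- Tuples at a point over the generic point come from `H`. -/
theorem exists_gen_point {m : ℕ} {W : Over (Spec (CommRingCat.of V))} (p : W.left)
    (hp : W.hom p = p0 (V := V) (K := K)) (a : Fin m → (W ⟶ G))
    (ha : ∀ j, Set.range (a j).left ⊆ closure (genSet G i)) :
    ∃ (T : Over (Spec (CommRingCat.of K))) (ν : (Over.map (Spec.map (CommRingCat.ofHom (algebraMap V K)))).obj T ⟶ W) (h : Fin m → (T ⟶ H))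
      (z : T.left), ν.left z = p ∧ (Set.range ν.left ⊆ {p}) ∧ IsReduced T.left ∧
      ∀ w, ν ≫ FreeGroup.lift a w = (bcPts (Spec.map (CommRingCat.ofHom (algebraMap V K))) T).symm (FreeGroup.lift h w ≫ i) := by
  haveI : IsPreimmersion (Spec.map (CommRingCat.ofHom (algebraMap V K))) := IsPreimmersion.of_isLocalization (nonZeroDivisors V)
  obtain ⟨ψ, hψ⟩ := exists_factor_gen (K := K) (W.left.fromSpecResidueField p ≫ W.hom) (by
    rw [Scheme.Hom.comp_apply]; exact (congrArg W.hom (Scheme.fromSpecResidueField_apply _ _)).trans hp)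
  let T : Over (Spec (CommRingCat.of K)) := Over.mk ψ
  let ν : (Over.map (Spec.map (CommRingCat.ofHom (algebraMap V K)))).obj T ⟶ W := Over.homMk (W.left.fromSpecResidueField p) hψ.symm
  haveI : IsReduced T.left := inferInstanceAs (IsReduced (Spec (W.left.residueField p)))
  have hh : ∀ j, ∃ h : T ⟶ H, h ≫ i = bcPts (Spec.map (CommRingCat.ofHom (algebraMap V K))) T (ν ≫ a j) := by
    intro j
    obtain ⟨l, hl⟩ := RedSepLib.exists_lift_of_range_subset (bcPts (Spec.map (CommRingCat.ofHom (algebraMap V K))) T (ν ≫ a j)).left i.left (by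
      rintro _ ⟨z, rfl⟩
      set b := bcPts (Spec.map (CommRingCat.ofHom (algebraMap V K))) T (ν ≫ a j) with hb
      have e : b.left ≫ pullback.fst G.hom (Spec.map (CommRingCat.ofHom (algebraMap V K))) = (ν ≫ a j).left := by
        rw [← bcPts_symm_left (Spec.map (CommRingCat.ofHom (algebraMap V K))) T b, hb, MulEquiv.symm_apply_apply]
      have h1 : pullback.fst G.hom (Spec.map (CommRingCat.ofHom (algebraMap V K))) (b.left z) ∈ closure (genSet G i) ∩ G.hom ⁻¹' {p0 (V := V) (K := K)} := by
        refine ⟨?_, ?_⟩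
        · show (b.left ≫ pullback.fst G.hom (Spec.map (CommRingCat.ofHom (algebraMap V K)))) z ∈ _
          rw [e]
          exact ha j ⟨ν.left z, rfl⟩
        · rw [Set.mem_preimage, ← Scheme.Hom.comp_apply (pullback.fst G.hom (Spec.map (CommRingCat.ofHom (algebraMap V K)))), pullback.condition, Scheme.Hom.comp_apply,
            ← range_gen]
          exact ⟨_, rfl⟩
      rw [closure_inter] at h1
      obtain ⟨y, hy, hye⟩ := h1
      exact (pullback.fst G.hom (Spec.map (CommRingCat.ofHom (algebraMap V K)))).isEmbedding.injective hye ▸ hy)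
    exact ⟨Over.homMk l (by rw [← Over.w i, reassoc_of% hl]; exact Over.w _), Over.OverMorphism.ext hl⟩
  choose h hh using hh
  refine ⟨T, ν, h, IsLocalRing.closedPoint (W.left.residueField p), Scheme.fromSpecResidueField_apply _ _,
    fun x ⟨z, hz⟩ => by rw [← hz]; exact Scheme.fromSpecResidueField_apply _ _, inferInstance, fun w => ?_⟩
  rw [lift_comp, funext hh, comp_lift]
  refine ((bcPts (Spec.map (CommRingCat.ofHom (algebraMap V K))) T).symm_apply_apply _).symm.trans (congrArg _ ?_)
  exact hom_lift (bcPts (Spec.map (CommRingCat.ofHom (algebraMap V K))) T).toMonoidHom (fun j => ν ≫ a j) w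

/-- The universal word of tuples in the closure takes values in the closure. -/
theorem range_univ_subset {m : ℕ} {W : Over (Spec (CommRingCat.of V))} [Flat W.hom] (a : Fin m → (W ⟶ G))
    (ha : ∀ j, Set.range (a j).left ⊆ closure (genSet G i)) (w : FreeGroup (Fin m)) :
    Set.range (FreeGroup.lift a w).left ⊆ closure (genSet G i) := by
  rintro _ ⟨p, rfl⟩
  obtain ⟨p', hp', hp0⟩ := Flat.generalizingMap W.hom (p0_specializes (K := K) (W.hom p))
  obtain ⟨T, ν, h, z, hz, -, -, hν⟩ := exists_gen_point G i p' hp0 a ha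
  refine (hp'.map (FreeGroup.lift a w).left.continuous).mem_closed isClosed_closure (subset_closure ?_)
  refine ⟨(FreeGroup.lift h w ≫ i).left z, ⟨(FreeGroup.lift h w).left z, ?_⟩, ?_⟩
  · rw [Over.comp_left, Scheme.Hom.comp_apply]
  · have e := congrArg CommaMorphism.left (hν w)
    rw [← hz]
    show ((FreeGroup.lift h w ≫ i).left ≫ pullback.fst G.hom (Spec.map (CommRingCat.ofHom (algebraMap V K)))) z = (ν.left ≫ (FreeGroup.lift a w).left) z
    rw [← bcPts_symm_left (Spec.map (CommRingCat.ofHom (algebraMap V K))) T]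
    exact congrArg (fun φ => φ z) e.symm

variable [Smooth H.hom] [ConnectedSpace H.left]

include i in
/-- The main result. -/
theorem exists_special {k : Type u} [Field k] [IsAlgClosed k] (r : V →+* k) (hr : Function.Surjective r) :
    ∃ (H' : Over (Spec (CommRingCat.of k))) (_ : GrpObj H') (i' : H' ⟶ Red.bc (Spec.map (CommRingCat.ofHom r)) G),
      IsMonHom i' ∧ IsClosedImmersion i'.left ∧ Smooth H'.hom ∧ ConnectedSpace H'.left ∧
      topologicalKrullDim H.left ≤ topologicalKrullDim H'.left ∧
      ∀ (m : ℕ) (w : FreeGroup (Fin m)), Law H m w → Law H' m w := by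
  haveI : LocallyOfFiniteType H.hom := inferInstance
  haveI : IsPreimmersion (Spec.map (CommRingCat.ofHom (algebraMap V K))) := IsPreimmersion.of_isLocalization (nonZeroDivisors V)
  let c := Spec.map (CommRingCat.ofHom r)
  haveI : IsClosedImmersion c := IsClosedImmersion.spec_of_surjective (CommRingCat.ofHom r) hr
  -- the closure
  haveI : IrreducibleSpace H.left := GrpComp19.irreducibleSpace H
  let Z := closure (genSet G i)
  have hirr : IsIrreducible Z := by
    refine IsIrreducible.closure (IsIrreducible.image ?_ _ (pullback.fst G.hom (Spec.map (CommRingCat.ofHom (algebraMap V K)))).continuous.continuousOn)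
    rw [← Set.image_univ]
    exact (IrreducibleSpace.isIrreducible_univ _).image _ i.left.continuous.continuousOn
  let I := Scheme.IdealSheafData.vanishingIdeal (⟨Z, isClosed_closure⟩ : TopologicalSpace.Closeds G.left)
  haveI : IsReduced I.subscheme := RedSepLib.isReduced_vanishingIdeal_subscheme _
  let Hb : Over (Spec (CommRingCat.of V)) := Over.mk (I.subschemeι ≫ G.hom)
  let incl : Hb ⟶ G := Over.homMk I.subschemeι rfl
  haveI : IsClosedImmersion incl.left := inferInstanceAs (IsClosedImmersion I.subschemeι)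
  haveI : IsReduced Hb.left := ‹IsReduced I.subscheme›
  have hrange : Set.range incl.left = Z := by
    show Set.range I.subschemeι = _
    rw [Scheme.IdealSheafData.range_subschemeι, Scheme.IdealSheafData.coe_support_vanishingIdeal]
    rfl
  have hsub : ∀ {T : Over (Spec (CommRingCat.of V))} (g : T ⟶ Hb), Set.range (g ≫ incl).left ⊆ Z := by
    intro T g x hx
    rw [← hrange]
    obtain ⟨y, rfl⟩ := hx
    exact ⟨g.left y, by rw [Over.comp_left, Scheme.Hom.comp_apply]⟩
  have hlift : ∀ {T : Over (Spec (CommRingCat.of V))} [IsReduced T.left] (g : T ⟶ G),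
      Set.range g.left ⊆ Z → ∃ g' : T ⟶ Hb, g' ≫ incl = g := by
    intro T _ g hg
    obtain ⟨l, hl⟩ := RedSepLib.exists_lift_of_range_subset g.left incl.left (hrange ▸ hg)
    exact ⟨Over.homMk l (by rw [← Over.w incl, reassoc_of% hl, Over.w g]), Over.OverMorphism.ext hl⟩
  haveI : IrreducibleSpace Hb.left := irreducibleSpace_of_range incl.left.isEmbedding (hrange ▸ hirr)
  haveI : IsIntegral Hb.left := isIntegral_of_irreducibleSpace_of_isReduced _
  haveI : LocallyOfFiniteType Hb.hom := inferInstanceAs (LocallyOfFiniteType (I.subschemeι ≫ G.hom))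
  -- surjectivity onto the base and flatness
  have hval : ∀ {m : ℕ} {T : Over (Spec (CommRingCat.of V))} [IsReduced T.left] (a : Fin m → (T ⟶ G)),
      (∀ j, Set.range (a j).left ⊆ Z) → Flat Hb.hom → ∀ w : FreeGroup (Fin m),
        Set.range (FreeGroup.lift a w).left ⊆ Z := by
    intro m T _ a ha hfl w
    haveI := hfl
    choose b hb using fun j => hlift (a j) (ha j)
    obtain ⟨W, y, hW, hy⟩ := exists_univ Hb m
    obtain ⟨t, ht⟩ := hy T b
    have e : FreeGroup.lift a w = t ≫ FreeGroup.lift (fun j => y j ≫ incl) w := by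
      rw [comp_lift]
      congr 2
      funext j
      rw [← Category.assoc, ht, hb]
    rintro _ ⟨z, rfl⟩
    rw [e, Over.comp_left, Scheme.Hom.comp_apply]
    exact range_univ_subset G i (fun j => y j ≫ incl) (fun j => hsub (y j)) w ⟨_, rfl⟩
  obtain ⟨h₀, hh₀⟩ : ∃ x : Hb.left, Hb.hom x = p0 (V := V) (K := K) := by
    obtain ⟨x, hx⟩ : (genSet G i).Nonempty := (Set.range_nonempty _).image _
    obtain ⟨y, hy⟩ : x ∈ Set.range incl.left := hrange ▸ subset_closure hx
    refine ⟨y, ?_⟩
    rw [← Over.w incl, Scheme.Hom.comp_apply, hy]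
    exact ((closure_inter G i).ge hx).2
  haveI : IsDominant Hb.hom := ⟨fun v =>
    (p0_specializes (K := K) v).mem_closed isClosed_closure (subset_closure ⟨h₀, hh₀⟩)⟩
  haveI hfl : Flat Hb.hom := flat_of_isIntegral Hb.hom
  haveI : IsReduced (𝟙_ (Over (Spec (CommRingCat.of V)))).left := inferInstanceAs (IsReduced (Spec (CommRingCat.of V)))
  have hη : Set.range η[G].left ⊆ Z := by
    have h := hval (T := 𝟙_ _) (Fin.elim0 : Fin 0 → (𝟙_ (Over (Spec (CommRingCat.of V))) ⟶ G))
      (fun j => j.elim0) hfl 1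
    rwa [map_one, Hom.one_def, toUnit_unique (toUnit _) (𝟙 _), Category.id_comp] at h
  haveI : Surjective Hb.hom := ⟨fun v => by
    obtain ⟨y, hy⟩ : η[G].left v ∈ Set.range incl.left := hrange ▸ hη ⟨v, rfl⟩
    refine ⟨y, ?_⟩
    rw [← Over.w incl, Scheme.Hom.comp_apply, hy, ← Scheme.Hom.comp_apply]
    have := Over.w η[G]
    rw [this]
    rfl⟩
  -- the special fibre
  let Gk := Red.bc c G
  haveI : LocallyOfFiniteType Gk.hom := inferInstanceAs (LocallyOfFiniteType (pullback.snd G.hom c))
  haveI : QuasiCompact Gk.hom := inferInstanceAs (QuasiCompact (pullback.snd G.hom c))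
  let π := pullback.fst G.hom c
  have hvalk : ∀ {m : ℕ} {T : Over (Spec (CommRingCat.of k))} [IsReduced T.left] (a : Fin m → (T ⟶ Gk)),
      (∀ j, Set.range (a j).left ⊆ π ⁻¹' Z) → ∀ w : FreeGroup (Fin m),
        Set.range (FreeGroup.lift a w).left ⊆ π ⁻¹' Z := by
    intro m T hT a ha w
    haveI : IsReduced ((Over.map c).obj T).left := inferInstanceAs (IsReduced T.left)
    have h := hval (T := (Over.map c).obj T) (fun j => (bcPts c T).symm (a j)) (by
      intro j
      rintro _ ⟨z, rfl⟩
      rw [bcPts_symm_left, Scheme.Hom.comp_apply]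
      exact ha j ⟨z, rfl⟩) hfl w
    rintro _ ⟨z, rfl⟩
    have e : FreeGroup.lift (fun j => (bcPts c T).symm (a j)) w = (bcPts c T).symm (FreeGroup.lift a w) :=
      (hom_lift (bcPts c T).symm.toMonoidHom a w).symm
    rw [e, bcPts_symm_left] at h
    exact h ⟨z, rfl⟩
  let J := Scheme.IdealSheafData.vanishingIdeal
    (⟨π ⁻¹' Z, isClosed_closure.preimage π.continuous⟩ : TopologicalSpace.Closeds Gk.left)
  haveI : IsReduced J.subscheme := RedSepLib.isReduced_vanishingIdeal_subscheme _
  let A : Over (Spec (CommRingCat.of k)) := Over.mk (J.subschemeι ≫ Gk.hom)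
  let j₀ : A ⟶ Gk := Over.homMk J.subschemeι rfl
  haveI : IsClosedImmersion j₀.left := inferInstanceAs (IsClosedImmersion J.subschemeι)
  haveI : IsReduced A.left := ‹IsReduced J.subscheme›
  have hA : Set.range j₀.left = π ⁻¹' Z := by
    show Set.range J.subschemeι = _
    rw [Scheme.IdealSheafData.range_subschemeι, Scheme.IdealSheafData.coe_support_vanishingIdeal]
    rfl
  have hliftk : ∀ {T : Over (Spec (CommRingCat.of k))} [IsReduced T.left] (g : T ⟶ Gk),
      Set.range g.left ⊆ π ⁻¹' Z → ∃ g' : T ⟶ A, g' ≫ j₀ = g := by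
    intro T _ g hg
    obtain ⟨l, hl⟩ := RedSepLib.exists_lift_of_range_subset g.left j₀.left (hA ▸ hg)
    exact ⟨Over.homMk l (by rw [← Over.w j₀, reassoc_of% hl, Over.w g]), Over.OverMorphism.ext hl⟩
  have hsubk : ∀ {T : Over (Spec (CommRingCat.of k))} (g : T ⟶ A), Set.range (g ≫ j₀).left ⊆ π ⁻¹' Z := by
    intro T g x hx
    rw [← hA]
    obtain ⟨y, rfl⟩ := hx
    exact ⟨g.left y, by rw [Over.comp_left, Scheme.Hom.comp_apply]⟩
  haveI : IsReduced (𝟙_ (Over (Spec (CommRingCat.of k)))).left := inferInstanceAs (IsReduced (Spec (CommRingCat.of k)))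
  haveI : IsReduced (A ⊗ A).left := PerfProd19.isReduced_tensorObj A A
  haveI : Mono j₀ := Over.mono_of_mono_left j₀
  obtain ⟨e₁, he₁⟩ := hliftk η[Gk] (by
    have h := hvalk (Fin.elim0 : Fin 0 → (𝟙_ (Over (Spec (CommRingCat.of k))) ⟶ Gk)) (fun j => j.elim0) 1
    rwa [map_one, Hom.one_def, toUnit_unique (toUnit _) (𝟙 _), Category.id_comp] at h)
  obtain ⟨m₁, hm₁⟩ := hliftk ((j₀ ⊗ₘ j₀) ≫ μ[Gk]) (by
    have h := hvalk ![fst A A ≫ j₀, snd A A ≫ j₀]
      (fun j => by fin_cases j <;> exact hsubk _) (FreeGroup.of 0 * FreeGroup.of 1)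
    simpa [Hom.mul_def, lift_fst_comp_snd_comp] using h)
  obtain ⟨v₁, hv₁⟩ := hliftk (j₀ ≫ ι[Gk]) (by
    have h := hvalk ![j₀] (fun j => by fin_cases j; rw [← hA]; rfl) (FreeGroup.of 0)⁻¹
    simpa [Hom.inv_def] using h)
  letI := AbRigid.grpObjOfMono j₀ e₁ he₁ m₁ hm₁ v₁ hv₁
  haveI : IsMonHom j₀ := ⟨he₁, hm₁⟩
  haveI : LocallyOfFiniteType A.hom := inferInstanceAs (LocallyOfFiniteType (J.subschemeι ≫ Gk.hom))
  haveI : QuasiCompact A.hom := inferInstanceAs (QuasiCompact (J.subschemeι ≫ Gk.hom))
  haveI : Smooth A.hom := GrpSmooth19.smooth_of_isReduced A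
  obtain ⟨H', hH', j, hjm, hjo, hjc, hH's, hH'q, hH'c⟩ := AttrBorel21.exists_component_closed A
  haveI := hjm
  haveI := hjo
  haveI := hjc
  haveI := hH's
  haveI := hH'q
  haveI := hH'c
  let i' : H' ⟶ Gk := j ≫ j₀
  haveI : IsMonHom i' := inferInstanceAs (IsMonHom (j ≫ j₀))
  haveI : IsClosedImmersion i'.left := inferInstanceAs (IsClosedImmersion (j.left ≫ j₀.left))
  refine ⟨H', hH', i', inferInstance, inferInstance, inferInstance, inferInstance, ?_, fun m w hw => ?_⟩
  · -- dimensions
    have hdim := S7624.result V Hb.left Hb.hom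
    have hfib : ∀ v, Set.range (Hb.hom.fiberι v ≫ incl.left) = Z ∩ G.hom ⁻¹' {v} := by
      intro v
      rw [Scheme.Hom.comp_base, TopCat.coe_comp, Set.range_comp, Scheme.Hom.range_fiberι]
      ext x
      constructor
      · rintro ⟨y, hy, rfl⟩
        refine ⟨hrange ▸ ⟨y, rfl⟩, ?_⟩
        rw [Set.mem_preimage, ← Scheme.Hom.comp_apply, Over.w incl]
        exact hy
      · rintro ⟨hx, hx'⟩
        obtain ⟨y, rfl⟩ := hrange ▸ hx
        refine ⟨y, ?_, rfl⟩
        rw [Set.mem_preimage, ← Over.w incl, Scheme.Hom.comp_apply]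
        exact hx'
    have hgen : topologicalKrullDim ↥(Hb.hom.fiber (⟨⊥, Ideal.bot_prime⟩ : PrimeSpectrum V)) =
        topologicalKrullDim H.left := by
      rw [← p0_eq (K := K)]
      refine dim_eq_of_range_eq (Hb.hom.fiberι _ ≫ incl.left).isEmbedding
        (i.left ≫ pullback.fst G.hom (Spec.map (CommRingCat.ofHom (algebraMap V K)))).isEmbedding ?_
      rw [hfib, closure_inter, Scheme.Hom.comp_base, TopCat.coe_comp, Set.range_comp]
      rfl
    let cl : Spec (CommRingCat.of V) := IsLocalRing.closedPoint V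
    have hcl : c (IsLocalRing.closedPoint k) = cl := by
      refine PrimeSpectrum.ext ?_
      show Ideal.comap r (IsLocalRing.closedPoint k).asIdeal = IsLocalRing.maximalIdeal V
      rw [show (IsLocalRing.closedPoint k).asIdeal = ⊥ from IsLocalRing.maximalIdeal_eq_bot, ← RingHom.ker_eq_comap_bot]
      exact IsLocalRing.eq_maximalIdeal (RingHom.ker_isMaximal_of_surjective r hr)
    have hc : Set.range c = {cl} := by
      refine Set.Subset.antisymm ?_ (Set.singleton_subset_iff.2 ⟨IsLocalRing.closedPoint k, ?_⟩)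
      · rintro _ ⟨z, rfl⟩
        rw [Set.mem_singleton_iff, Subsingleton.elim (α := PrimeSpectrum k) z (IsLocalRing.closedPoint k)]
        exact hcl
      · exact hcl
    have hr2 : Set.range (j₀.left ≫ π) = Set.range (Hb.hom.fiberι cl ≫ incl.left) := by
      rw [hfib, Scheme.Hom.comp_base, TopCat.coe_comp, Set.range_comp]
      erw [hA]
      refine Set.image_preimage_eq_inter_range.trans ?_
      exact congrArg (Z ∩ ·) ((Scheme.Pullback.range_fst G.hom c).trans (congrArg (G.hom ⁻¹' ·) hc))
    let φ : A.left ≃ₜ ↥(Hb.hom.fiber cl) := (j₀.left ≫ π).isEmbedding.toHomeomorph.trans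
      ((Homeomorph.setCongr hr2).trans (Hb.hom.fiberι cl ≫ incl.left).isEmbedding.toHomeomorph.symm)
    let e₀ := η[A].left (IsLocalRing.closedPoint k)
    have hC : connectedComponent e₀ ∈ irreducibleComponents A.left :=
      ⟨GrpComp19.isIrreducible_connectedComponent A e₀, fun B hB hle =>
        hB.isConnected.subset_connectedComponent (hle mem_connectedComponent)⟩
    have hC' : φ '' connectedComponent e₀ ∈ irreducibleComponents ↥(Hb.hom.fiber cl) :=
      ⟨hC.1.image _ φ.continuous.continuousOn, fun B hB hle => by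
        have h1 : φ.symm '' B ⊆ connectedComponent e₀ := hC.2 (hB.image _ φ.symm.continuous.continuousOn)
          (fun x hx => ⟨φ x, hle ⟨x, hx, rfl⟩, φ.symm_apply_apply x⟩)
        exact fun x hx => ⟨φ.symm x, h1 ⟨x, hx, rfl⟩, φ.apply_symm_apply x⟩⟩
    have h3 := hdim _ hC'
    rw [hgen] at h3
    have hjr : Set.range j.left = connectedComponent e₀ := by
      have he : e₀ ∈ Set.range j.left := AbRigid.one_mem_range j
      exact Set.Subset.antisymm ((isConnected_range j.left.continuous).subset_connectedComponent he)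
        (IsClopen.connectedComponent_subset ⟨j.left.isClosedEmbedding.isClosed_range,
          j.left.isOpenEmbedding.isOpen_range⟩ he)
    rw [← h3]
    refine le_of_eq (dim_eq_of_range_eq Topology.IsEmbedding.subtypeVal (φ.isEmbedding.comp j.left.isEmbedding) ?_)
    rw [Subtype.range_coe, Set.range_comp, hjr]
  · -- laws
    intro T a
    haveI : Flat H'.hom := inferInstance
    haveI : GeometricallyConnected H'.hom := GrpGen20.geometricallyConnected_of_connected H'
    haveI : GeometricallyIntegral H'.hom := AbRigid.geometricallyIntegral_of_smooth H'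
    obtain ⟨W', y', hW'g, hW'l, hW'q, hy'⟩ : ∃ (W' : Over (Spec (CommRingCat.of k))) (y' : Fin m → (W' ⟶ H')),
        GeometricallyIntegral W'.hom ∧ LocallyOfFiniteType W'.hom ∧ QuasiCompact W'.hom ∧
        ∀ (T : Over (Spec (CommRingCat.of k))) (x : Fin m → (T ⟶ H')), ∃ t : T ⟶ W', ∀ j, t ≫ y' j = x j := by
      clear hw w a
      induction m with
      | zero =>
        refine ⟨𝟙_ _, Fin.elim0, ⟨fun L _ x W p₁ p₂ hW => ?_⟩, inferInstanceAs (LocallyOfFiniteType (𝟙 _)),
          inferInstanceAs (QuasiCompact (𝟙 _)), fun T x => ⟨toUnit T, fun j => j.elim0⟩⟩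
        haveI : IsIso (𝟙_ (Over (Spec (CommRingCat.of k)))).hom := inferInstanceAs (IsIso (𝟙 _))
        haveI : IsIso p₂ := hW.isIso_snd_of_isIso
        haveI : Nonempty W := ⟨(inv p₂) (IsLocalRing.closedPoint L)⟩
        exact isIntegral_of_isOpenImmersion p₂
      | succ m ih =>
        obtain ⟨W', y', hg, hl, hq, hy'⟩ := ih
        refine ⟨H' ⊗ W', Fin.cons (fst H' W') (fun j => snd H' W' ≫ y' j),
          AbRigid.geometricallyIntegral_tensorObj _ _,
          inferInstanceAs (LocallyOfFiniteType (Limits.pullback.fst H'.hom W'.hom ≫ H'.hom)),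
          inferInstanceAs (QuasiCompact (Limits.pullback.fst H'.hom W'.hom ≫ H'.hom)), fun T x => ?_⟩
        obtain ⟨t, ht⟩ := hy' T (fun j => x j.succ)
        refine ⟨lift (x 0) t, Fin.cases (by simp) (fun i => by simp [ht i])⟩
    haveI := hW'g
    haveI := hW'l
    obtain ⟨t, ht⟩ := hy' T a
    suffices hu : FreeGroup.lift y' w = 1 by
      rw [← funext ht, ← comp_lift, hu, MonObj.comp_one]
    haveI : Mono i' := Over.mono_of_mono_left i'
    rw [← cancel_mono i', lift_comp, MonObj.one_comp]
    let W'V := (Over.map c).obj W'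
    haveI : IsLocallyNoetherian W'.left := LocallyOfFiniteType.isLocallyNoetherian W'.hom
    haveI : IsIntegral W'.left := GeometricallyIntegral.isIntegral_of_subsingleton W'.hom
    haveI : IsReduced W'V.left := inferInstanceAs (IsReduced W'.left)
    let b : Fin m → (W'V ⟶ G) := fun l => (bcPts c W').symm (y' l ≫ i')
    have hb : ∀ l, Set.range (b l).left ⊆ Z := by
      intro l
      rintro _ ⟨z, rfl⟩
      show ((bcPts c W').symm (y' l ≫ j ≫ j₀)).left z ∈ Z
      rw [bcPts_symm_left]
      refine (congrArg (· ∈ Z) (Scheme.Hom.comp_apply _ _ _)).mpr ?_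
      exact hsubk (y' l ≫ j) ⟨z, by rw [Category.assoc]; rfl⟩
    choose bH hbH using fun l => hlift (b l) (hb l)
    obtain ⟨W, y, hW, hy⟩ := exists_univ Hb m
    obtain ⟨τ, hτ⟩ := hy W'V bH
    let a₁ : Fin m → (W ⟶ G) := fun l => y l ≫ incl
    let u₁ := FreeGroup.lift a₁ w
    -- the locus where the law holds
    let Δ := pullback.diagonal G.hom
    let d : W.left ⟶ pullback.diagonalObj G.hom := pullback.lift u₁.left (1 : W ⟶ G).left
      ((Over.w u₁).trans (Over.w (1 : W ⟶ G)).symm)
    let E := pullback.fst d Δ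
    haveI : IsImmersion E := inferInstance
    have hE : ∀ {P : Scheme.{u}} (q : P ⟶ W.left), q ≫ u₁.left = q ≫ (1 : W ⟶ G).left →
        Set.range q ⊆ Set.range E := by
      intro P q hq x hx
      obtain ⟨z, rfl⟩ := hx
      refine ⟨pullback.lift q (q ≫ u₁.left) (pullback.hom_ext ?_ ?_) z, ?_⟩
      · simp [d, Δ]
      · simp [d, Δ, hq]
      · rw [← Scheme.Hom.comp_apply, pullback.lift_fst]
    have hdense : ∀ p : W.left, ∃ p', p' ⤳ p ∧ p' ∈ Set.range E := by
      intro p
      haveI := hW
      obtain ⟨p', hp', hp0⟩ := Flat.generalizingMap W.hom (p0_specializes (K := K) (W.hom p))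
      obtain ⟨T', ν, h, z, hz, -, -, hν⟩ := exists_gen_point G i p' hp0 a₁ (fun l => hsub (y l))
      refine ⟨p', hp', hz ▸ hE ν.left ?_ ⟨z, rfl⟩⟩
      have e : ν ≫ u₁ = ν ≫ 1 := by
        rw [hν w, hw, MonObj.one_comp, map_one, MonObj.comp_one]
      exact congrArg CommaMorphism.left e
    have hopen : IsOpen (Set.range E) := by
      obtain ⟨U, C, hU, hC, hUC⟩ := E.isLocallyClosed_range
      have : C = Set.univ := by
        refine Set.eq_univ_of_forall fun p => ?_
        obtain ⟨p', hp', hpE⟩ := hdense p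
        exact hp'.mem_closed hC (hUC ▸ hpE).2
      rw [hUC, this, Set.inter_univ]; exact hU
    let O : W'.left.Opens := ⟨τ.left ⁻¹' Set.range E, hopen.preimage τ.left.continuous⟩
    obtain ⟨pp, hpp⟩ := hy' (𝟙_ _) (fun _ => 1)
    have hO : (O : Set W'.left).Nonempty := by
      refine ⟨pp.left (IsLocalRing.closedPoint k), ?_⟩
      refine hE (((Over.map c).map pp).left ≫ τ.left) ?_ ⟨IsLocalRing.closedPoint k, by
        rw [Scheme.Hom.comp_apply]; rfl⟩
      have e : ((Over.map c).map pp ≫ τ) ≫ u₁ = ((Over.map c).map pp ≫ τ) ≫ 1 := by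
        have h1 : ∀ l, ((Over.map c).map pp ≫ τ) ≫ a₁ l = 1 := fun l => by
          simp only [a₁, Category.assoc, reassoc_of% hτ, hbH, b]
          rw [← bcPts_symm_comp, ← Category.assoc, hpp, MonObj.one_comp, map_one]
        rw [comp_lift, funext h1, MonObj.comp_one]
        exact lift_one w
      exact congrArg CommaMorphism.left e
    haveI : IsDominant O.ι := ⟨by
      rw [DenseRange, Scheme.Opens.range_ι]
      exact O.2.dense hO⟩
    haveI : IsReduced O.toScheme := isReduced_of_isOpenImmersion O.ι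
    obtain ⟨l, hl⟩ := exists_lift_immersion (O.ι ≫ τ.left) E (by
      rintro _ ⟨z, rfl⟩
      rw [Scheme.Hom.comp_apply]
      exact z.2)
    have hEeq : E ≫ u₁.left = E ≫ (1 : W ⟶ G).left := by
      have h1 := congrArg (fun φ => φ ≫ pullback.fst G.hom G.hom) (pullback.condition : E ≫ d = _ ≫ Δ)
      have h2 := congrArg (fun φ => φ ≫ pullback.snd G.hom G.hom) (pullback.condition : E ≫ d = _ ≫ Δ)
      simp [d, Δ] at h1 h2
      exact h1.trans h2.symm
    have hτu : τ ≫ u₁ = (bcPts c W').symm (FreeGroup.lift (fun l => y' l ≫ i') w) := by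
      rw [comp_lift]
      refine Eq.trans ?_ (hom_lift (bcPts c W').symm.toMonoidHom (fun l => y' l ≫ i') w).symm
      congr 2
      funext l
      simp only [a₁, reassoc_of% hτ, hbH, b]
      rfl
    have hτ1 : τ ≫ (1 : W ⟶ G) = (bcPts c W').symm 1 := by
      rw [MonObj.comp_one, map_one]
    haveI := AbRigid.isSeparated_of_grpObj Gk
    refine Over.OverMorphism.ext (ext_of_isDominant_of_isSeparated Gk.hom
      ((Over.w _).trans (Over.w _).symm) O.ι (pullback.hom_ext ?_ ?_))
    · simp only [Category.assoc]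
      rw [← bcPts_symm_left, ← bcPts_symm_left, ← hτu, ← hτ1, Over.comp_left, Over.comp_left,
        ← Category.assoc, ← hl, Category.assoc, hEeq]
      rw [← Category.assoc, hl, Category.assoc]
    · simp only [Category.assoc]
      exact congrArg (O.ι ≫ ·) ((Over.w _).trans (Over.w (1 : W' ⟶ Gk)).symm)

end Groth.Agent.SubSpec19
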